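import Cfsg.Agent.Lib.PiHomog3258.Five.Values
import Cfsg.Agent.Lib.BrauerMap.CentralDefect
import Cfsg.Agent.Lib.Induced.Character

/-!
# The values of characters at `a`, at its square roots, and the Fourier coefficients on `a f^i`
-/

set_option autoImplicit false
set_option linter.style.haveILetI false
set_option linter.unusedSectionVars false

namespace Cfsg.Agent.Lib.PiHomog3258.Five.Config

open Subgroup Cfsg.Agent.Lib.Characters.Basic Cfsg.Agent.Lib.U34Type98
open scoped ComplexConjugate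

universe u

attribute [local instance] Classical.propDecidable

/-- A rational algebraic integer. -/
theorem exists_int {z : ℂ} (hz : IsIntegral ℤ z) {d : ℤ} (hd : d ≠ 0) {m : ℤ}
    (h : (d : ℂ) * z = m) : ∃ j : ℤ, z = j := by
  have hq : z = (((m : ℚ) / (d : ℚ)) : ℚ) := by
    have : (d : ℂ) ≠ 0 := Int.cast_ne_zero.2 hd
    push_cast
    rw [eq_div_iff this, mul_comm, h]
  have hi : IsIntegral ℤ ((m : ℚ) / (d : ℚ)) := by
    rw [hq] at hz
    exact (isIntegral_algebraMap_iff (R := ℤ) (A := ℚ) (B := ℂ) (algebraMap ℚ ℂ).injective).1 hz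
  obtain ⟨j, hj⟩ := (IsIntegrallyClosed.isIntegral_iff (R := ℤ) (K := ℚ)).1 hi
  exact ⟨j, by rw [hq, ← hj]; simp⟩

variable {G : Type u} [Group G] [Finite G]

/-- The multiplicity of a linear character of a cyclic subgroup. -/
theorem exists_nat_cyclic {χ : G → ℂ} (hχ : Cfsg.IsCharacter G χ) {g : G} {N : ℕ}
    (hN : orderOf g = N) {ζ : ℂ} (hζ : ζ ^ N = 1) :
    ∃ m : ℕ, ∑ k ∈ Finset.range N, χ (g ^ k) * conj (ζ ^ k) = (N : ℂ) * m := by
  have hN0 : N ≠ 0 := hN ▸ (orderOf_pos g).ne'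
  let u : ℂˣ := Units.mk0 ζ fun h => by rw [h, zero_pow hN0] at hζ; exact zero_ne_one hζ
  let x : ↥(zpowers g) := ⟨g, mem_zpowers g⟩
  have hx : orderOf x = N := by rw [← Subgroup.orderOf_coe]; exact hN
  have hgen : ∀ y : ↥(zpowers g), y ∈ zpowers x := fun y => by
    obtain ⟨k, hk⟩ := mem_zpowers_iff.1 y.2
    exact mem_zpowers_iff.2 ⟨k, Subtype.ext (by rw [coe_zpow]; exact hk)⟩
  let lam : ↥(zpowers g) →* ℂˣ := monoidHomOfForallMemZpowers hgen (g' := u) (by
    rw [hx]; exact orderOf_dvd_of_pow_eq_one (Units.ext (by simpa [u] using hζ)))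
  have hlam : ∀ k : ℕ, lam (x ^ k) = u ^ k := fun k => by
    rw [map_pow, monoidHomOfForallMemZpowers_apply_gen]
  letI := Fintype.ofFinite ↥(zpowers g)
  obtain ⟨m, hm⟩ := exists_classInner_nat (isCharacter_comp (zpowers g).subtype hχ)
    (Induced.Character.isCharacter_hom lam)
  rw [Cfsg.classInner, inv_mul_eq_iff_eq_mul₀ (Nat.cast_ne_zero.2 Nat.card_pos.ne'),
    Nat.card_zpowers, hN] at hm
  refine ⟨m, ?_⟩
  rw [← hm, ← Fin.sum_univ_eq_sum_range]
  refine Fintype.sum_equiv ((finCongr hN.symm).trans (finEquivZPowers (isOfFinOrder_of_finite g)))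
    _ _ fun k => ?_
  have hk : (finCongr hN.symm).trans (finEquivZPowers (isOfFinOrder_of_finite g)) k =
      x ^ (k : ℕ) := Subtype.ext (by simp [x, finEquivZPowers_apply])
  rw [hk]
  show χ (g ^ (k : ℕ)) * conj (ζ ^ (k : ℕ)) =
    χ ((x ^ (k : ℕ) : ↥(zpowers g)) : G) * conj (lam (x ^ (k : ℕ)) : ℂ)
  rw [hlam]
  simp [u, x]

variable {S : Sylow 2 G} {a x₀ : ↥(S : Subgroup G)} {f : G} (D : Config S a x₀ f)
include D

/-- The class of an element outside of the centre is its coset of the centre. -/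
theorem exists_conj_coset [Fintype ↥(S : Subgroup G)] {x z : ↥(S : Subgroup G)}
    (hx : x ∉ center ↥(S : Subgroup G)) (hz : z ∈ center ↥(S : Subgroup G)) :
    ∃ t, t * x * t⁻¹ = x * z := by
  set img := Finset.univ.image fun t : ↥(S : Subgroup G) => t * x * t⁻¹
  set Z := (Finset.univ.filter fun y : ↥(S : Subgroup G) => y ∈ center ↥(S : Subgroup G)).image
    (x * ·)
  have hsub : img ⊆ Z := by
    intro y hy
    obtain ⟨t, -, rfl⟩ := Finset.mem_image.1 hy
    refine Finset.mem_image.2 ⟨x⁻¹ * (t * x * t⁻¹), Finset.mem_filter.2 ⟨Finset.mem_univ _, ?_⟩,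
      mul_inv_cancel_left _ _⟩
    rw [show x⁻¹ * (t * x * t⁻¹) = x⁻¹ * x⁻¹ * ((x * t) * (x * t)) * (t⁻¹ * t⁻¹) by group]
    refine mul_mem (mul_mem ?_ (D.sq _)) ?_
    · rw [← mul_inv_rev]; exact inv_mem (D.sq x)
    · rw [← mul_inv_rev]; exact inv_mem (D.sq t)
  have hZ : Z.card = 4 := by
    rw [Finset.card_image_of_injective _ (mul_right_injective x), ← Fintype.card_subtype,
      ← Nat.card_eq_fintype_card]
    exact D.card_center
  have hle : (Finset.univ : Finset ↥(S : Subgroup G)).card ≤ 16 * img.card := by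
    refine Finset.card_le_mul_card_image _ _ fun y hy => ?_
    obtain ⟨t, -, rfl⟩ := Finset.mem_image.1 hy
    rw [← D.card_cent x hx, Nat.card_eq_fintype_card, Fintype.card_subtype]
    refine Finset.card_le_card_of_injOn (fun t' => t⁻¹ * t') ?_ (mul_right_injective _).injOn
    intro t' ht'
    have h := (Finset.mem_filter.1 ht').2
    refine Finset.mem_coe.2 (Finset.mem_filter.2 ⟨Finset.mem_univ _, ?_⟩)
    calc t⁻¹ * t' * x = t⁻¹ * (t' * x * t'⁻¹) * t' := by group
      _ = t⁻¹ * (t * x * t⁻¹) * t' := by rw [h]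
      _ = _ := by group
  rw [Finset.card_univ, ← Nat.card_eq_fintype_card, D.card] at hle
  have heq : img = Z := Finset.eq_of_subset_of_card_le hsub (by omega)
  obtain ⟨t, -, ht⟩ := Finset.mem_image.1
    (heq.ge (Finset.mem_image.2 ⟨z, Finset.mem_filter.2 ⟨Finset.mem_univ _, hz⟩, rfl⟩))
  exact ⟨t, ht⟩

/-- The character of degree 4. -/
theorem exists_theta [Fintype ↥(S : Subgroup G)] :
    ∃ θ : Cfsg.IrrCharacter ↥(S : Subgroup G), (θ : ↥(S : Subgroup G) → ℂ) 1 = 4 ∧
      (∀ x, x ∉ center ↥(S : Subgroup G) → (θ : ↥(S : Subgroup G) → ℂ) x = 0) ∧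
      ∑ x, (θ : ↥(S : Subgroup G) → ℂ) x = 0 := by
  haveI : Nontrivial ↥(center ↥(S : Subgroup G)) :=
    Finite.one_lt_card_iff_nontrivial.1 (by rw [D.card_center]; norm_num)
  obtain ⟨⟨v, hv⟩, hv1⟩ := exists_ne (1 : ↥(center ↥(S : Subgroup G)))
  obtain ⟨θ, hθ⟩ := Characters.Kernel.exists_apply_ne_degree
    (g := v) (fun h => hv1 (Subtype.ext h))
  set F : ↥(S : Subgroup G) → ℂ := (θ : ↥(S : Subgroup G) → ℂ) with hF
  have hmul : ∀ z ∈ center ↥(S : Subgroup G), ∀ b c,
      F (b * z) * F (z⁻¹ * c) = F b * F c := fun z hz =>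
    BrauerMap.CentralDefect.mul_apply_central (fun g => (mem_center_iff.1 hz g).symm) θ
  have hoff : ∀ x, x ∉ center ↥(S : Subgroup G) → F x = 0 := by
    intro x hx
    obtain ⟨t, ht⟩ := D.exists_conj_coset hx hv
    have h := hmul v hv x 1
    rw [← ht, show F (t * x * t⁻¹) = F x from isClassFunction_irr θ x t, mul_one,
      inv_eq_of_mul_eq_one_right (D.center_sq v hv)] at h
    exact (mul_eq_mul_left_iff.1 h).resolve_left hθ
  obtain ⟨n, hn, hn1⟩ := exists_degree_pos θ
  replace hn1 : F 1 = (n : ℂ) := hn1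
  have hn4 : n = 4 := by
    have h := classInner_self_irr θ
    rw [Cfsg.classInner, D.card] at h
    have hterm : ∀ x, F x * conj (F x) =
        if x ∈ center ↥(S : Subgroup G) then ((n * n : ℕ) : ℂ) else 0 := by
      intro x
      split_ifs with hx
      · have h := hmul x hx 1 1
        rw [one_mul, mul_one, inv_eq_of_mul_eq_one_right (D.center_sq x hx), hn1] at h
        rw [← apply_inv (isCharacter_irr θ), inv_eq_of_mul_eq_one_right (D.center_sq x hx), h]
        push_cast
        rfl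
      · rw [hoff x hx, zero_mul]
    rw [Finset.sum_congr rfl fun x _ => hterm x, ← Finset.sum_filter, Finset.sum_const,
      nsmul_eq_mul, ← Fintype.card_subtype, ← Nat.card_eq_fintype_card] at h
    rw [show Nat.card {x // x ∈ center ↥(S : Subgroup G)} = 4 from D.card_center] at h
    have h2 : ((n * n : ℕ) : ℂ) = ((16 : ℕ) : ℂ) := by
      push_cast at h ⊢
      linear_combination 16 * h
    have h3 : n * n = 16 := Nat.cast_inj.1 h2
    nlinarith
  have hF1 : F 1 = 4 := by rw [hn1, hn4]; norm_num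
  refine ⟨θ, hF1, hoff, ?_⟩
  have h := classInner_irr_of_ne (χ := θ) (ψ := oneChar _) fun e => by
    have h1 := congrArg (fun χ : Cfsg.IrrCharacter ↥(S : Subgroup G) =>
      (χ : ↥(S : Subgroup G) → ℂ) 1) e
    simp only [oneChar_apply] at h1
    rw [← hF, hF1] at h1
    norm_num at h1
  rw [Cfsg.classInner] at h
  simp only [oneChar_apply, map_one, mul_one] at h
  exact (mul_eq_zero.1 h).resolve_left (inv_ne_zero (Nat.cast_ne_zero.2 Nat.card_pos.ne'))

/-- The values at `a` and at its square roots are integers congruent modulo 4. -/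
theorem exists_int_values {χ : G → ℂ} (hχ : Cfsg.IsCharacter G χ) :
    ∃ A W : ℤ, χ a = A ∧ χ x₀ = W ∧ (4 : ℤ) ∣ A - W := by
  letI := Fintype.ofFinite ↥(S : Subgroup G)
  have hcl := isClassFunction_of_isCharacter hχ
  obtain ⟨θ, hθ1, hθoff, hθsum⟩ := D.exists_theta
  have hcS := isCharacter_comp (S : Subgroup G).subtype hχ
  obtain ⟨m, hm⟩ := exists_classInner_nat hcS (isCharacter_one (G := ↥(S : Subgroup G)))
  obtain ⟨k, hk⟩ := exists_classInner_nat hcS (isCharacter_irr θ)
  rw [Cfsg.classInner, D.card, inv_mul_eq_iff_eq_mul₀ (by norm_num)] at hm hk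
  obtain ⟨m', hm'⟩ := exists_nat_cyclic hχ D.orderOf_a (ζ := 1) (one_pow _)
  simp only [one_pow, map_one, mul_one, Finset.sum_range_succ, Finset.range_zero,
    Finset.sum_empty, zero_add, pow_zero, pow_one] at hm'
  obtain ⟨n, hn⟩ := exists_degree hχ
  obtain ⟨A, hA⟩ : ∃ A : ℤ, χ a = A := ⟨2 * m' - n, by
    push_cast; rw [hn] at hm'; linear_combination hm'⟩
  set Z := Finset.univ.filter fun x : ↥(S : Subgroup G) => x ∈ center ↥(S : Subgroup G)
  have hZ1 : (1 : ↥(S : Subgroup G)) ∈ Z := Finset.mem_filter.2 ⟨Finset.mem_univ _, one_mem _⟩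
  have hsplit : ∀ F : ↥(S : Subgroup G) → ℂ, ∑ x : ↥(S : Subgroup G), χ (x : G) * F x =
      ((n : ℂ) - A) * F 1 + (A : ℂ) * ∑ x ∈ Z, F x + χ x₀ * (∑ x, F x - ∑ x ∈ Z, F x) := by
    intro F
    rw [← Finset.sum_filter_add_sum_filter_not Finset.univ
      (fun x : ↥(S : Subgroup G) => x ∈ center ↥(S : Subgroup G)) (fun x => χ (x : G) * F x),
      ← Finset.sum_filter_add_sum_filter_not Finset.univ
      (fun x : ↥(S : Subgroup G) => x ∈ center ↥(S : Subgroup G)) F, add_sub_cancel_left,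
      Finset.mul_sum _ _ (χ x₀)]
    congr 1
    · rw [← Finset.add_sum_erase _ _ hZ1, ← Finset.add_sum_erase Z F hZ1, coe_one, hn,
        Finset.sum_congr rfl (g := fun x => (A : ℂ) * F x) fun x hx => by
          rw [← classFunction_apply_of_isConj hcl (D.conj_center x
            (Finset.mem_filter.1 (Finset.mem_of_mem_erase hx)).2 (Finset.ne_of_mem_erase hx)), hA],
        ← Finset.mul_sum]
      ring
    · refine Finset.sum_congr rfl fun x hx => ?_
      rw [classFunction_apply_of_isConj hcl (D.conj x (Finset.mem_filter.1 hx).2)]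
  have hm2 : ((n : ℂ) - A) + (A : ℂ) * 4 + χ x₀ * 60 = 64 * m := by
    have hc : (Z.card : ℂ) = 4 := by
      rw [← Fintype.card_subtype, ← Nat.card_eq_fintype_card]; exact_mod_cast D.card_center
    have h := hsplit fun _ => 1
    simp only [Finset.sum_const, Finset.card_univ, ← Nat.card_eq_fintype_card, D.card,
      nsmul_eq_mul, hc, mul_one] at h
    simp only [Function.comp_apply, coe_subtype, Pi.one_apply, map_one, mul_one] at hm
    rw [h] at hm
    push_cast at hm
    linear_combination hm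
  have hk2 : 4 * (n : ℂ) - 4 * A = 64 * k := by
    have hθ0 : ∀ x, conj ((θ : ↥(S : Subgroup G) → ℂ) x) ≠ 0 → x ∈ center ↥(S : Subgroup G) :=
      fun x hx => not_not.1 fun h => hx (by rw [hθoff x h, map_zero])
    have h := hsplit fun x => conj ((θ : ↥(S : Subgroup G) → ℂ) x)
    rw [show ∑ x ∈ Z, conj ((θ : ↥(S : Subgroup G) → ℂ) x) =
        ∑ x, conj ((θ : ↥(S : Subgroup G) → ℂ) x) from
      Finset.sum_filter_of_ne fun x _ hx => hθ0 x hx, ← map_sum, hθsum, hθ1] at h
    simp only [Function.comp_apply, coe_subtype] at hk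
    rw [h] at hk
    simp only [map_zero, map_ofNat, mul_zero, sub_zero, add_zero, Nat.cast_ofNat] at hk
    linear_combination hk
  obtain ⟨W, hW⟩ := exists_int (isIntegral_apply hχ (x₀ : G)) (d := 15) (by norm_num)
    (m := 16 * m - 4 * k - A) (by push_cast; linear_combination (1 / 4 : ℂ) * hm2 - (1 / 16 : ℂ) * hk2)
  refine ⟨A, W, hA, hW, ?_⟩
  have h : 15 * W = 16 * (m : ℤ) - 4 * k - A := by
    have : (15 : ℂ) * W = 16 * m - 4 * k - A := by
      rw [← hW]; linear_combination (1 / 4 : ℂ) * hm2 - (1 / 16 : ℂ) * hk2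
    exact_mod_cast this
  omega

end Cfsg.Agent.Lib.PiHomog3258.Five.Config
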