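import Cfsg.Agent.Lib.PiHomog3258.Five.Arith
import Cfsg.Agent.Lib.PiHomog3258.Five.Integral

/-!
# The principal block cannot have only large degrees

The integers `h = -χ(x₀)` and `e j = (χ(a) - χ(x₀))/4 - c j`, where `c j` are the Fourier
coefficients of `i ↦ χ(a f^i)`, have the Gram matrix of `Arith.not_large`.
-/

set_option autoImplicit false
set_option linter.style.haveILetI false
set_option linter.unusedSectionVars false

namespace Cfsg.Agent.Lib.PiHomog3258.Five.Config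

open Subgroup Cfsg.Agent.Lib.Characters.Basic Cfsg.Agent.Lib.U34Type98
open scoped ComplexConjugate

universe u

attribute [local instance] Classical.propDecidable

/-- A fifth root of unity. -/
noncomputable def omega : ℂ := Complex.exp (2 * Real.pi * Complex.I / (5 : ℕ))

theorem omega_prim : IsPrimitiveRoot omega 5 := Complex.isPrimitiveRoot_exp 5 (by norm_num)

theorem conj_omega_pow (n : ℕ) : conj (omega ^ n) = omega ^ (4 * n) := by
  have h : omega * omega ^ 4 = 1 := by rw [← pow_succ']; exact omega_prim.pow_eq_one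
  have hne : omega ≠ 0 := omega_prim.ne_zero (by norm_num)
  rw [map_pow, pow_mul]
  congr 1
  rw [← Complex.inv_eq_conj (omega_prim.norm'_eq_one (by norm_num)), inv_eq_of_mul_eq_one_right h]

theorem omega_pow_eq (m : ℕ) : omega ^ m = omega ^ (m % 5) :=
  pow_eq_pow_mod m omega_prim.pow_eq_one

/-- The orthogonality of the characters of the group of order 5. -/
theorem sum_omega (m : ℕ) :
    ∑ i : Fin 5, omega ^ ((i : ℕ) * m) = if 5 ∣ m then 5 else 0 := by
  split_ifs with h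
  · obtain ⟨k, rfl⟩ := h
    rw [Finset.sum_congr rfl fun (i : Fin 5) _ => show omega ^ ((i : ℕ) * (5 * k)) = 1 by
      rw [mul_left_comm, pow_mul, omega_prim.pow_eq_one, one_pow]]
    simp
  · have hx : omega ^ m ≠ 1 := fun h' => h ((omega_prim.pow_eq_one_iff_dvd m).1 h')
    have h5 : (omega ^ m) ^ 5 = 1 := by rw [← pow_mul, mul_comm, pow_mul,
      omega_prim.pow_eq_one, one_pow]
    rw [Finset.sum_congr rfl fun (i : Fin 5) _ => show omega ^ ((i : ℕ) * m) = (omega ^ m) ^ (i : ℕ) by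
      rw [mul_comm, pow_mul]]
    refine (mul_eq_zero.1 ?_).resolve_left (sub_ne_zero.2 hx)
    simp only [Fin.sum_univ_five, Fin.val_zero, Fin.val_one, Fin.val_two,
      show ((3 : Fin 5) : ℕ) = 3 from rfl, show ((4 : Fin 5) : ℕ) = 4 from rfl]
    linear_combination h5

theorem sum_periodic {H : ℕ → ℂ} (n M : ℕ) :
    ∑ k ∈ Finset.range (n * M), H (k % n) = (M : ℂ) * ∑ k ∈ Finset.range n, H k := by
  induction M with
  | zero => simp
  | succ M ih =>
    rw [Nat.mul_succ, Finset.sum_range_add, ih]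
    push_cast
    rw [add_mul, one_mul]
    congr 1
    refine Finset.sum_congr rfl fun k hk => ?_
    rw [Nat.mul_add_mod, Nat.mod_eq_of_lt (Finset.mem_range.1 hk)]

variable {G : Type u} [Group G] [Finite G] {S : Sylow 2 G} {a x₀ : ↥(S : Subgroup G)} {f : G}

/-- The Fourier coefficient of `i ↦ χ (a f^i)`. -/
noncomputable def coef (χ : G → ℂ) (a f : G) (j : Fin 5) : ℂ :=
  (1 / 5 : ℂ) * ∑ i : Fin 5, χ (a * f ^ (i : ℕ)) * conj (omega ^ ((i : ℕ) * (j : ℕ)))

theorem sum_coef (χ : G → ℂ) (a f : G) : ∑ j : Fin 5, coef χ a f j = χ a := by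
  simp only [coef, ← Finset.mul_sum]
  rw [Finset.sum_comm]
  simp only [← Finset.mul_sum, ← map_sum]
  rw [Finset.sum_congr rfl fun (i : Fin 5) _ => show χ (a * f ^ (i : ℕ)) *
      conj (∑ j : Fin 5, omega ^ ((i : ℕ) * (j : ℕ))) = if i = 0 then 5 * χ a else 0 by
    rw [Finset.sum_congr rfl fun (j : Fin 5) _ => show omega ^ ((i : ℕ) * (j : ℕ)) =
      omega ^ ((j : ℕ) * (i : ℕ)) by rw [mul_comm], sum_omega]
    have hd : 5 ∣ (i : ℕ) ↔ i = 0 := ⟨fun h => Fin.ext (by
      have := i.2; simp only [Fin.val_zero]; omega), fun h => by simp [h]⟩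
    rw [if_congr hd rfl rfl]
    split_ifs with h
    · subst h; simp [mul_comm, map_ofNat]
    · simp]
  simp

variable (D : Config S a x₀ f) {M : Ideal Cfsg.AlgInt} (hM : Cfsg.IsPModular 2 M)
include D

include hM in
/-- The coefficients are integers. -/
theorem exists_int_coef {χ : Cfsg.IrrCharacter G} (hχ : χ ∈ Section.blk G M) (j : Fin 5) :
    ∃ c : ℤ, coef (χ : G → ℂ) a f j = c := by
  obtain ⟨r, hr⟩ := D.f_ord
  set P := 5 ^ r with hP
  have hN : orderOf f = 5 * P := by rw [hr, pow_succ, mul_comm]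
  have hc : Commute (a : G) f := (D.f_center a D.a_mem).symm
  have hg : orderOf ((a : G) * f) = 10 * P := by
    rw [hc.orderOf_mul_eq_mul_orderOf_of_coprime, D.orderOf_a, hN]
    · ring
    · rw [D.orderOf_a, hN, hP, ← pow_succ']
      exact (Nat.Coprime.pow_right _ (by norm_num))
  have h10 : (omega ^ (j : ℕ)) ^ (10 * P) = 1 := by
    rw [← pow_mul, show (j : ℕ) * (10 * P) = 5 * (2 * j * P) by ring, pow_mul,
      omega_prim.pow_eq_one, one_pow]
  obtain ⟨m, hm⟩ := exists_nat_cyclic (isCharacter_irr χ) hg h10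
  obtain ⟨m', hm'⟩ := exists_nat_cyclic (isCharacter_irr χ) hg (ζ := -omega ^ (j : ℕ))
    (by rw [neg_pow, h10, mul_one, show 10 * P = 2 * (5 * P) by ring, pow_mul]; norm_num)
  refine ⟨(m : ℤ) - m', ?_⟩
  set H : ℕ → ℂ := fun k => if Odd k then
    2 * ((χ : G → ℂ) ((a : G) * f ^ (k % 5)) * conj (omega ^ (k % 5 * (j : ℕ)))) else 0 with hH
  have hterm : ∀ k, (χ : G → ℂ) (((a : G) * f) ^ k) * conj ((omega ^ (j : ℕ)) ^ k) -
      (χ : G → ℂ) (((a : G) * f) ^ k) * conj ((-omega ^ (j : ℕ)) ^ k) = H (k % 10) := by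
    intro k
    have ho : Odd (k % 10) ↔ Odd k := by rw [Nat.odd_iff, Nat.odd_iff]; omega
    simp only [hH, ho, show k % 10 % 5 = k % 5 by omega]
    rcases Nat.even_or_odd k with he | ho'
    · rw [if_neg (Nat.not_odd_iff_even.2 he), he.neg_pow, sub_self]
    · obtain ⟨l, hl⟩ := ho'
      rw [if_pos ⟨l, hl⟩, (Odd.neg_pow ⟨l, hl⟩), map_neg]
      have hak : (a : G) ^ k = a := by
        rw [hl, pow_succ, pow_mul, pow_two,
          show (a : G) * a = 1 from congrArg Subtype.val (D.center_sq a D.a_mem), one_pow, one_mul]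
      have hω : (omega ^ (j : ℕ)) ^ k = omega ^ (k % 5 * (j : ℕ)) := by
        rw [← pow_mul, omega_pow_eq, omega_pow_eq (k % 5 * _), Nat.mul_mod, Nat.mul_mod (k % 5),
          Nat.mod_mod, mul_comm ((j : ℕ) % 5)]
      rw [hc.mul_pow, hak, D.apply_mod hM k hχ, hω]
      ring
  have hsum : ((10 * P : ℕ) : ℂ) * m - ((10 * P : ℕ) : ℂ) * m' =
      (P : ℂ) * ∑ k ∈ Finset.range 10, H k := by
    rw [← hm, ← hm', ← Finset.sum_sub_distrib, Finset.sum_congr rfl fun k _ => hterm k,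
      sum_periodic]
  have h5 : ∑ k ∈ Finset.range 10, H k = 2 * (5 * coef (χ : G → ℂ) a f j) := by
    simp only [Finset.sum_range_succ, Finset.range_zero, Finset.sum_empty, hH, coef,
      Fin.sum_univ_five, Nat.odd_iff, Nat.reduceMod, Fin.val_zero, Fin.val_one, Fin.val_two,
      show ((3 : Fin 5) : ℕ) = 3 from rfl, show ((4 : Fin 5) : ℕ) = 4 from rfl]
    norm_num
    ring
  rw [h5] at hsum
  have hP0 : (P : ℂ) ≠ 0 := Nat.cast_ne_zero.2 (by rw [hP]; positivity)
  refine mul_left_cancel₀ (mul_ne_zero (by norm_num : (10 : ℂ) ≠ 0) hP0) ?_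
  push_cast at hsum ⊢
  linear_combination -hsum

include hM in
/-- The orthogonality on `a f^i`. -/
theorem sum_mul_section (i l : Fin 5) :
    ∑ χ ∈ Section.blk G M, (χ : G → ℂ) ((a : G) * f ^ (i : ℕ)) *
      conj ((χ : G → ℂ) ((a : G) * f ^ (l : ℕ))) =
      if i = l then (if i = 0 then 320 else 20) else 0 := by
  haveI : Fact (Nat.Prime 2) := ⟨Nat.prime_two⟩
  letI := Fintype.ofFinite ↥(centralizer ({(a : G)} : Set G))
  have hp : ∀ n : ℕ, Cfsg.IsPPart 2 ((a : G) * f ^ n) (a : G) := fun n => by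
    simpa using D.isPPart (one_mem (core (a : G))) n
  have h := (D.cover hM).sum_mul hM ⟨_, D.mem_section (i : ℕ)⟩ ⟨_, D.mem_section (l : ℕ)⟩
    (hp i) (hp l)
  rw [h, D.card_conj i l, Nat.cast_mul,
    mul_div_cancel_left₀ _ (Nat.cast_ne_zero.2 Nat.card_pos.ne')]
  split_ifs <;> norm_num

include hM in
/-- The Gram matrix of the coefficients. -/
theorem sum_coef_mul (j k : Fin 5) :
    ∑ χ ∈ Section.blk G M, coef (χ : G → ℂ) a f j * conj (coef (χ : G → ℂ) a f k) =
      12 + if j = k then 4 else 0 := by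
  have hexp : ∀ χ : Cfsg.IrrCharacter G, coef (χ : G → ℂ) a f j * conj (coef (χ : G → ℂ) a f k) =
      (1 / 25 : ℂ) * ∑ i : Fin 5, ∑ l : Fin 5, conj (omega ^ ((i : ℕ) * (j : ℕ))) *
        omega ^ ((l : ℕ) * (k : ℕ)) * ((χ : G → ℂ) ((a : G) * f ^ (i : ℕ)) *
          conj ((χ : G → ℂ) ((a : G) * f ^ (l : ℕ)))) := fun χ => by
    simp only [coef, map_mul, map_sum, Complex.conj_conj, map_div₀, map_one, map_ofNat]
    rw [mul_mul_mul_comm, Finset.sum_mul_sum]
    congr 1
    · norm_num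
    · exact Finset.sum_congr rfl fun i _ => Finset.sum_congr rfl fun l _ => by ring
  simp only [hexp, ← Finset.mul_sum]
  rw [Finset.sum_comm]
  have hin : ∀ i : Fin 5, ∑ χ ∈ Section.blk G M, ∑ l : Fin 5,
      conj (omega ^ ((i : ℕ) * (j : ℕ))) * omega ^ ((l : ℕ) * (k : ℕ)) *
        ((χ : G → ℂ) ((a : G) * f ^ (i : ℕ)) * conj ((χ : G → ℂ) ((a : G) * f ^ (l : ℕ)))) =
      20 * omega ^ ((i : ℕ) * (4 * (j : ℕ) + k)) + if i = 0 then 300 else 0 := fun i => by
    rw [Finset.sum_comm]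
    simp only [← Finset.mul_sum, D.sum_mul_section hM, mul_ite, mul_zero]
    rw [Finset.sum_ite_eq, if_pos (Finset.mem_univ i), conj_omega_pow, ← pow_add,
      show 4 * ((i : ℕ) * (j : ℕ)) + (i : ℕ) * (k : ℕ) = (i : ℕ) * (4 * (j : ℕ) + k) by ring]
    split_ifs with h
    · subst h; simp; norm_num
    · ring
  rw [Finset.sum_congr rfl fun i _ => hin i, Finset.sum_add_distrib, ← Finset.mul_sum, sum_omega]
  have hd : 5 ∣ 4 * (j : ℕ) + k ↔ j = k := by
    refine ⟨fun h => Fin.ext ?_, fun h => by subst h; exact ⟨j, by ring⟩⟩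
    have := j.2; have := k.2
    omega
  rw [if_congr hd rfl rfl]
  simp only [Finset.sum_ite_eq', Finset.mem_univ, if_true]
  split_ifs <;> norm_num

include hM in
theorem sum_root_root :
    ∑ χ ∈ Section.blk G M, (χ : G → ℂ) x₀ * conj ((χ : G → ℂ) x₀) = 16 := by
  obtain ⟨⟨K, hK⟩, h2⟩ := D.exists_sec D.x₀_not_center D.x₀_sq
  rw [Section.sum_blk_self M hM hK, h2]
  norm_num

include hM in
theorem sum_root_section (i : ℕ) :
    ∑ χ ∈ Section.blk G M, (χ : G → ℂ) x₀ * conj ((χ : G → ℂ) ((a : G) * f ^ i)) = 0 := by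
  haveI : Fact (Nat.Prime 2) := ⟨Nat.prime_two⟩
  refine Sect.sum_mul_eq_zero hM (x := (x₀ : G)) (y := (a : G)) ?_
    (by simpa using D.isPPart (one_mem (core (a : G))) i) fun h => ?_
  · obtain ⟨n, hn⟩ := IsPGroup.iff_orderOf.1 S.2 x₀
    exact ⟨1, mul_one _, Commute.one_right _, ⟨n, by rw [Subgroup.orderOf_coe, hn]⟩, by simp⟩
  · obtain ⟨c, hc⟩ := isConj_iff.1 h
    refine D.a_ne (Subtype.ext ?_)
    have h2 : c * ((x₀ : G) * x₀) * c⁻¹ = 1 := by
      rw [show c * ((x₀ : G) * x₀) * c⁻¹ = c * x₀ * c⁻¹ * (c * x₀ * c⁻¹) by group, hc]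
      exact congrArg Subtype.val (D.center_sq a D.a_mem)
    rw [conj_eq_one_iff] at h2
    exact (congrArg Subtype.val D.x₀_sq).symm.trans h2

include hM in
theorem sum_root_coef (j : Fin 5) :
    ∑ χ ∈ Section.blk G M, (χ : G → ℂ) x₀ * conj (coef (χ : G → ℂ) a f j) = 0 := by
  simp only [coef, map_mul, map_sum, Finset.mul_sum]
  rw [Finset.sum_comm]
  refine Finset.sum_eq_zero fun i _ => ?_
  refine (Finset.sum_congr rfl fun χ _ => ?_).trans
    ((Finset.mul_sum (a := conj (1 / 5 : ℂ) * conj (conj (omega ^ ((i : ℕ) * (j : ℕ))))) ..).symm.trans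
      (by rw [D.sum_root_section hM i, mul_zero]))
  ring

include hM in
/-- The class equation. -/
theorem sum_count_coef (j : Fin 5) :
    ∑ χ ∈ Section.blk G M, (coef (χ : G → ℂ) a f j - coef (χ : G → ℂ) a f 0) *
      (χ : G → ℂ) a ^ 2 / (χ : G → ℂ) 1 = 0 := by
  haveI : Fact (Nat.Prime 2) := ⟨Nat.prime_two⟩
  simp only [coef, ← mul_sub, ← Finset.sum_sub_distrib, Finset.mul_sum, Finset.sum_mul,
    Finset.sum_div]
  rw [Finset.sum_comm]
  refine Finset.sum_eq_zero fun i _ => ?_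
  rcases eq_or_ne i 0 with rfl | hi
  · exact Finset.sum_eq_zero fun χ _ => by simp
  have h := (D.cover hM).sum_count hM (g := (a : G) * f ^ (i : ℕ)) (v := (a : G))
    (by simpa using D.isPPart (one_mem (core (a : G))) (i : ℕ))
    fun k hk g g' => D.not_two hk hi g g'
  rw [← mul_zero ((1 / 5 : ℂ) * (conj (omega ^ ((i : ℕ) * (j : ℕ))) - 1)), ← h, Finset.mul_sum]
  refine Finset.sum_congr rfl fun χ _ => ?_
  simp
  ring

include hM in
/-- **The contradiction.** -/
theorem false_of_large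
    (hd : ∀ χ ∈ (Section.blk G M).erase (oneChar G), ∀ i : Fin 5, i ≠ 0 →
      (χ : G → ℂ) ((a : G) * f ^ (i : ℕ)) ≠ 0 → ∀ n : ℕ, (χ : G → ℂ) 1 = n → 320 ≤ n ∨
        5 ≤ (((Section.blk G M).erase (oneChar G)).filter fun ψ : Cfsg.IrrCharacter G =>
          (ψ : G → ℂ) x₀ = (χ : G → ℂ) x₀ ∧ ∀ l : Fin 5, (ψ : G → ℂ) ((a : G) * f ^ (l : ℕ)) =
            (χ : G → ℂ) ((a : G) * f ^ (l : ℕ))).card) : False := by
  choose A W hA hW hAW using fun χ : Cfsg.IrrCharacter G =>
    D.exists_int_values (isCharacter_irr χ)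
  choose q hq using hAW
  choose n hn hn1 using fun χ : Cfsg.IrrCharacter G => exists_degree_pos χ
  have hc' : ∀ (j : Fin 5) (χ : Cfsg.IrrCharacter G), ∃ c : ℤ,
      χ ∈ Section.blk G M → coef (χ : G → ℂ) a f j = c := fun j χ => by
    by_cases h : χ ∈ Section.blk G M
    · obtain ⟨c, hc⟩ := D.exists_int_coef hM h j
      exact ⟨c, fun _ => hc⟩
    · exact ⟨0, fun h' => absurd h' h⟩
  choose c hc using hc'
  haveI := hM.2.1
  set B := Section.blk G M with hB
  have hone : oneChar G ∈ B := (Section.mem_blk M).2 Blocks.oneChar_mem_principalBlock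
  -- the sums over the block
  have hcc : ∀ j k, ∑ χ ∈ B, c j χ * c k χ = 12 + if j = k then 4 else 0 := fun j k => by
    refine Int.cast_injective (α := ℂ) ?_
    rw [Int.cast_sum, show (((12 : ℤ) + if j = k then 4 else 0 : ℤ) : ℂ) =
      12 + if j = k then 4 else 0 by split_ifs <;> norm_num, ← D.sum_coef_mul hM j k]
    push_cast
    exact Finset.sum_congr rfl fun χ hχ => by rw [hc j χ hχ, hc k χ hχ, map_intCast]
  have hWW : ∑ χ ∈ B, W χ * W χ = 16 := by
    refine Int.cast_injective (α := ℂ) ?_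
    push_cast [Int.cast_sum]
    rw [← D.sum_root_root hM]
    exact Finset.sum_congr rfl fun χ _ => by rw [hW, map_intCast]
  have hWc : ∀ j, ∑ χ ∈ B, W χ * c j χ = 0 := fun j => by
    refine Int.cast_injective (α := ℂ) ?_
    push_cast [Int.cast_sum]
    rw [← D.sum_root_coef hM j]
    exact Finset.sum_congr rfl fun χ hχ => by rw [hW, hc j χ hχ, map_intCast]
  have hsum : ∀ χ ∈ B, A χ = ∑ j, c j χ := fun χ hχ => by
    refine Int.cast_injective (α := ℂ) ?_
    rw [Int.cast_sum, ← hA, ← sum_coef (χ : G → ℂ) a f]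
    exact Finset.sum_congr rfl fun j _ => hc j χ hχ
  have hAc : ∀ j, ∑ χ ∈ B, A χ * c j χ = 64 := fun j => by
    rw [Finset.sum_congr rfl fun χ hχ => by rw [hsum χ hχ, Finset.sum_mul], Finset.sum_comm,
      Finset.sum_congr rfl fun k _ => hcc k j]
    simp [Finset.sum_add_distrib]
  have hAA : ∑ χ ∈ B, A χ * A χ = 320 := by
    rw [Finset.sum_congr rfl fun χ hχ => by
      show A χ * A χ = ∑ j, A χ * c j χ
      rw [← Finset.mul_sum, ← hsum χ hχ], Finset.sum_comm,
      Finset.sum_congr rfl fun k _ => hAc k]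
    simp
  have hWA : ∑ χ ∈ B, W χ * A χ = 0 := by
    rw [Finset.sum_congr rfl fun χ hχ => by rw [hsum χ hχ, Finset.mul_sum], Finset.sum_comm]
    exact Finset.sum_eq_zero fun k _ => hWc k
  have hqc : ∀ j, ∑ χ ∈ B, q χ * c j χ = 16 := fun j => by
    have h : ∑ χ ∈ B, A χ * c j χ - ∑ χ ∈ B, W χ * c j χ = 4 * ∑ χ ∈ B, q χ * c j χ := by
      rw [← Finset.sum_sub_distrib, Finset.mul_sum]
      exact Finset.sum_congr rfl fun χ _ => by rw [← sub_mul, hq χ]; ring
    rw [hAc, hWc] at h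
    omega
  have hWq : ∑ χ ∈ B, W χ * q χ = -4 := by
    have h : ∑ χ ∈ B, W χ * A χ - ∑ χ ∈ B, W χ * W χ = 4 * ∑ χ ∈ B, W χ * q χ := by
      rw [← Finset.sum_sub_distrib, Finset.mul_sum]
      exact Finset.sum_congr rfl fun χ _ => by rw [← mul_sub, hq χ]; ring
    rw [hWA, hWW] at h
    omega
  have hqq : ∑ χ ∈ B, q χ * q χ = 21 := by
    have h : ∑ χ ∈ B, A χ * A χ - 2 * ∑ χ ∈ B, W χ * A χ + ∑ χ ∈ B, W χ * W χ =
        16 * ∑ χ ∈ B, q χ * q χ := by
      rw [Finset.mul_sum, ← Finset.sum_sub_distrib, ← Finset.sum_add_distrib, Finset.mul_sum]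
      refine Finset.sum_congr rfl fun χ _ => ?_
      linear_combination (A χ - W χ + 4 * q χ) * hq χ
    rw [hWA, hWW, hAA] at h
    omega
  -- the trivial character
  set o := oneChar G
  have hAo : A o = 1 := by
    refine Int.cast_injective (α := ℂ) ?_; rw [← hA, oneChar_apply, Int.cast_one]
  have hWo : W o = 1 := by
    refine Int.cast_injective (α := ℂ) ?_; rw [← hW, oneChar_apply, Int.cast_one]
  have hqo : q o = 0 := by
    have := hq o
    rw [hAo, hWo] at this
    omega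
  have hco : ∀ j, c j o = if j = 0 then 1 else 0 := fun j => by
    refine Int.cast_injective (α := ℂ) ?_
    rw [← hc j o hone]
    simp only [coef, o, oneChar_apply, one_mul, ← map_sum, sum_omega]
    have hd : 5 ∣ (j : ℕ) ↔ j = 0 := ⟨fun h => Fin.ext (by
      have := j.2; simp only [Fin.val_zero]; omega), fun h => by simp [h]⟩
    rw [if_congr hd rfl rfl]
    split_ifs <;> simp [map_ofNat]
  refine Arith.not_large (B.erase o) (fun χ => -W χ) (fun j χ => q χ - c j χ)
    (fun χ => (n χ : ℚ)) ?_ ?_ ?_ ?_ (fun χ _ => Nat.cast_pos.2 (hn χ)) ?_ ?_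
  · rw [Finset.sum_erase_eq_sub hone, hWo]
    simp [hWW]
  · rw [Finset.sum_erase_eq_sub hone, hWo, hqo, hco]
    simp [mul_sub, Finset.sum_add_distrib, Finset.sum_neg_distrib, hWq, hWc]
  · intro j hj
    rw [Finset.sum_erase_eq_sub hone, hWo, hqo, hco]
    simp [hj, mul_sub, Finset.sum_add_distrib, Finset.sum_neg_distrib, hWq, hWc]
  · intro i j
    rw [Finset.sum_erase_eq_sub hone, hqo, hco, hco]
    have hcq : ∑ χ ∈ B, c i χ * q χ = 16 := by
      rw [← hqc i]; exact Finset.sum_congr rfl fun χ _ => mul_comm _ _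
    simp only [mul_sub, sub_mul, Finset.sum_sub_distrib, hqq, hqc, hcq, hcc]
    by_cases hij : i = j
    · subst hij
      by_cases hi : i = 0 <;> simp [hi]
    · by_cases hi : i = 0 <;> by_cases hj : j = 0 <;> simp_all
  · intro χ hχ j hne
    have hχB := Finset.mem_of_mem_erase hχ
    obtain ⟨i, hi, hi'⟩ : ∃ i : Fin 5, i ≠ 0 ∧ (χ : G → ℂ) ((a : G) * f ^ (i : ℕ)) ≠ 0 := by
      by_contra hall
      push Not at hall
      have hco' : ∀ l, coef (χ : G → ℂ) a f l = (1 / 5 : ℂ) * (χ : G → ℂ) a := fun l => by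
        rw [coef, Finset.sum_eq_single (0 : Fin 5)]
        · simp
        · intro i _ hi; rw [hall i hi, zero_mul]
        · exact fun h => absurd (Finset.mem_univ _) h
      refine hne (congrArg (q χ - ·) (Int.cast_injective (α := ℂ) ?_))
      rw [← hc 0 χ hχB, ← hc j χ hχB, hco', hco']
    rcases hd χ hχ i hi hi' (n χ) (hn1 χ) with h | h
    · exact Or.inl (by exact_mod_cast h)
    · refine Or.inr (h.trans (Finset.card_le_card fun ψ hψ => ?_))
      obtain ⟨hψs, hψW, hψi⟩ := Finset.mem_filter.1 hψ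
      have hψB := Finset.mem_of_mem_erase hψs
      have hWψ : W ψ = W χ := Int.cast_injective (α := ℂ) (by rw [← hW, ← hW, hψW])
      have hcψ : ∀ l, c l ψ = c l χ := fun l => Int.cast_injective (α := ℂ) (by
        rw [← hc l ψ hψB, ← hc l χ hχB]; simp only [coef, hψi])
      have hAψ : A ψ = A χ := by simp only [hsum ψ hψB, hsum χ hχB, hcψ]
      have hqψ : q ψ = q χ := by
        have h1 := hq ψ
        rw [hWψ, hAψ, hq χ] at h1
        omega
      exact Finset.mem_filter.2 ⟨hψs, by rw [hWψ], fun l => by rw [hqψ, hcψ]⟩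
  · intro j hj
    have h := D.sum_count_coef hM j
    rw [← Finset.sum_erase_add _ _ hone, hc j o hone, hc 0 o hone, hco, hco] at h
    simp [hj, o, oneChar_apply] at h
    refine Rat.cast_injective (α := ℂ) ?_
    rw [Rat.cast_sum, Rat.cast_one]
    have heq : ∀ χ ∈ B.erase o,
        ((((q χ - c 0 χ) - (q χ - c j χ) : ℤ) : ℚ) *
          ((4 * (∑ i, (q χ - c i χ)) - 5 * -W χ : ℤ) : ℚ) ^ 2 / (n χ : ℚ) : ℚ) =
        (((c j χ - c 0 χ : ℤ) : ℚ) * (A χ : ℚ) ^ 2 / (n χ : ℚ)) := fun χ hχ => by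
      rw [show 4 * (∑ i, (q χ - c i χ)) - 5 * -W χ = A χ by
        rw [Finset.sum_sub_distrib, ← hsum χ (Finset.mem_of_mem_erase hχ), Finset.sum_const,
          Finset.card_univ, Fintype.card_fin, nsmul_eq_mul]
        push_cast
        linear_combination -5 * hq χ]
      rw [show (q χ - c 0 χ) - (q χ - c j χ) = c j χ - c 0 χ by ring]
    rw [Finset.sum_congr rfl fun χ hχ => by rw [heq χ hχ]]
    have h' : ∑ χ ∈ B.erase o, (coef (χ : G → ℂ) a f j - coef (χ : G → ℂ) a f 0) *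
        (χ : G → ℂ) a ^ 2 / (χ : G → ℂ) 1 = 1 := by linear_combination h
    rw [← h']
    refine Finset.sum_congr rfl fun χ hχ => ?_
    have hχB := Finset.mem_of_mem_erase hχ
    rw [hc j χ hχB, hc 0 χ hχB, hA, hn1]
    push_cast
    rfl

end Cfsg.Agent.Lib.PiHomog3258.Five.Config
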