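import Cfsg.Agent.Lib.PiHomog3258.Five.Values
import Cfsg.Agent.Lib.Induced.Character
import Mathlib.GroupTheory.SemidirectProduct
import Mathlib.GroupTheory.FiniteAbelian.Duality
import Mathlib.RingTheory.RootsOfUnity.AlgebraicallyClosed

/-!
# The degrees in the principal block are at least 320

A character of the principal block restricted to `L` contains a non-trivial linear character `μ`.
Its multiplicity is a multiple of the order of the stabiliser of `μ` in `S`, and `f` fixes no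
non-trivial linear character, so the orbit of `μ` under `S⟨f⟩` contributes at least `5 · 64`.
-/

set_option autoImplicit false
set_option linter.style.haveILetI false
set_option linter.unusedSectionVars false

namespace Cfsg.Agent.Lib.PiHomog3258.Five.Degree

open Subgroup Cfsg.Agent.Lib.Characters.Basic Cfsg.Agent.Lib.U34Type98
open scoped ComplexConjugate

universe u

attribute [local instance] Classical.propDecidable

variable {G : Type u} [Group G] [Finite G] {L : Subgroup G}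

/-- The linear characters of `L`. -/
abbrev LinL (L : Subgroup G) := ↥L →* ℂˣ

/-- The automorphism of `L` given by an element normalising it. -/
def conjL {u : G} (hu : ∀ l ∈ L, u * l * u⁻¹ ∈ L) : ↥L →* ↥L :=
  MonoidHom.mk' (fun l => ⟨u * l * u⁻¹, hu l l.2⟩) fun l m => Subtype.ext (by simp [mul_assoc])

theorem conjL_injective {u : G} (hu : ∀ l ∈ L, u * l * u⁻¹ ∈ L) :
    Function.Injective (conjL hu) := fun l m h => Subtype.ext (by
  have : u * (l : G) * u⁻¹ = u * (m : G) * u⁻¹ := congrArg Subtype.val h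
  simpa using this)

section Multiplicity

variable [Fintype ↥L]

/-- The multiplicity of a linear character. -/
theorem exists_mult (χ : Cfsg.IrrCharacter G) (μ : LinL L) :
    ∃ m : ℕ, ∑ k : ↥L, (χ : G → ℂ) k * conj (μ k : ℂ) = (Nat.card L : ℂ) * m := by
  obtain ⟨m, hm⟩ := exists_classInner_nat (isCharacter_comp L.subtype (isCharacter_irr χ))
    (Induced.Character.isCharacter_hom μ)
  rw [Cfsg.classInner, inv_mul_eq_iff_eq_mul₀ (Nat.cast_ne_zero.2 Nat.card_pos.ne')] at hm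
  exact ⟨m, hm⟩

/-- The multiplicity of a linear character. -/
noncomputable def mult (χ : Cfsg.IrrCharacter G) (μ : LinL L) : ℕ := (exists_mult χ μ).choose

theorem mult_spec (χ : Cfsg.IrrCharacter G) (μ : LinL L) :
    ∑ k : ↥L, (χ : G → ℂ) k * conj (μ k : ℂ) = (Nat.card L : ℂ) * mult χ μ :=
  (exists_mult χ μ).choose_spec

theorem mult_conj (χ : Cfsg.IrrCharacter G) (μ : LinL L) {u : G} (hu : ∀ l ∈ L, u * l * u⁻¹ ∈ L) :
    mult χ (μ.comp (conjL hu)) = mult χ μ := by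
  have h : ∑ k : ↥L, (χ : G → ℂ) k * conj (μ.comp (conjL hu) k : ℂ) =
      ∑ k : ↥L, (χ : G → ℂ) k * conj (μ k : ℂ) :=
    Fintype.sum_equiv (Equiv.ofBijective _ (Finite.injective_iff_bijective.1 (conjL_injective hu)))
      _ _ fun k => by
      show (χ : G → ℂ) k * conj (μ (conjL hu k) : ℂ) =
        (χ : G → ℂ) (u * k * u⁻¹) * conj (μ (conjL hu k) : ℂ)
      rw [isClassFunction_irr χ (k : G) u]
  rw [mult_spec, mult_spec] at h
  exact_mod_cast mul_left_cancel₀ (Nat.cast_ne_zero.2 Nat.card_pos.ne') h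

theorem finite_lin (hL : ∀ l ∈ L, ∀ m ∈ L, l * m = m * l) : Finite (LinL L) := by
  letI : CommGroup ↥L :=
    { (inferInstance : Group ↥L) with mul_comm := fun l m => Subtype.ext (hL l l.2 m m.2) }
  obtain ⟨e⟩ := CommGroup.monoidHom_mulEquiv_of_hasEnoughRootsOfUnity ↥L ℂ
  exact Finite.of_equiv _ e.symm.toEquiv

theorem sum_lin_apply (hL : ∀ l ∈ L, ∀ m ∈ L, l * m = m * l) [Fintype (LinL L)] (k : ↥L) :
    ∑ μ : LinL L, (μ k : ℂ) = if k = 1 then (Nat.card L : ℂ) else 0 := by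
  letI : CommGroup ↥L :=
    { (inferInstance : Group ↥L) with mul_comm := fun l m => Subtype.ext (hL l l.2 m m.2) }
  split_ifs with hk
  · subst hk
    obtain ⟨e⟩ := CommGroup.monoidHom_mulEquiv_of_hasEnoughRootsOfUnity ↥L ℂ
    rw [← Nat.card_congr e.toEquiv, Nat.card_eq_fintype_card]
    simp
  obtain ⟨φ, hφ⟩ := CommGroup.exists_apply_ne_one_of_hasEnoughRootsOfUnity ↥L ℂ hk
  have hs : (φ k : ℂ) * ∑ μ : LinL L, (μ k : ℂ) = ∑ μ : LinL L, (μ k : ℂ) := by
    rw [Finset.mul_sum]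
    exact Fintype.sum_equiv (Equiv.mulLeft φ) _ _ fun μ => by simp
  by_contra h
  exact hφ (Units.ext (mul_left_eq_self₀.1 hs |>.resolve_right h))

/-- The restriction to `L` in terms of the multiplicities. -/
theorem apply_eq_sum (hL : ∀ l ∈ L, ∀ m ∈ L, l * m = m * l) [Fintype (LinL L)]
    (χ : Cfsg.IrrCharacter G) (k : ↥L) :
    (χ : G → ℂ) k = ∑ μ : LinL L, (mult χ μ : ℂ) * (μ k : ℂ) := by
  have hc : (Nat.card L : ℂ) ≠ 0 := Nat.cast_ne_zero.2 Nat.card_pos.ne'
  have hinv : ∀ (μ : LinL L) (x : ↥L), conj (μ x : ℂ) = (μ x⁻¹ : ℂ) := fun μ x =>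
    (apply_inv (Induced.Character.isCharacter_hom μ) x).symm
  refine mul_left_cancel₀ hc ?_
  rw [Finset.mul_sum]
  simp only [← mul_assoc, ← mult_spec, Finset.sum_mul, hinv]
  rw [Finset.sum_comm]
  have hterm : ∀ x : ↥L, ∑ μ : LinL L, (χ : G → ℂ) x * (μ x⁻¹ : ℂ) * (μ k : ℂ) =
      if x = k then (Nat.card L : ℂ) * (χ : G → ℂ) x else 0 := fun x => by
    simp only [mul_assoc, ← Units.val_mul, ← map_mul, ← Finset.mul_sum]
    rw [sum_lin_apply hL]
    simp only [inv_mul_eq_one]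
    split_ifs <;> simp [mul_comm]
  rw [Finset.sum_congr rfl fun x _ => hterm x, Finset.sum_ite_eq', if_pos (Finset.mem_univ _)]

end Multiplicity

variable {S : Sylow 2 G} {a x₀ : ↥(S : Subgroup G)} {f : G} (D : Config S a x₀ f)
  (A : Acts S a f L)
include D A

/-- Elements of order a power of 5 outside `S` in `S⟨f⟩` are conjugate to powers of `f`. -/
theorem exists_pow {w : G} (hw : w ∈ (S : Subgroup G) ⊔ zpowers f) (n : ℕ) (hn : w ^ 5 ^ n = 1) :
    ∃ (s : ↥(S : Subgroup G)) (j : ℕ), w = (s : G) * f ^ j * (s : G)⁻¹ := by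
  haveI : Fact (Nat.Prime 5) := ⟨by norm_num⟩
  have hf' : zpowers f ≤ normalizer ((S : Subgroup G) : Set G) := zpowers_le.2 D.f_norm
  set W := (S : Subgroup G) ⊔ zpowers f
  have hmem : ∀ x ∈ W, ∃ (s : ↥(S : Subgroup G)) (j : ℕ), x = (s : G) * f ^ j := by
    intro x hx
    rw [← SetLike.mem_coe, coe_mul_of_right_le_normalizer_left _ _ hf'] at hx
    obtain ⟨s, hs, y, hy, rfl⟩ := hx
    obtain ⟨j, hj⟩ := Submonoid.mem_powers_iff _ _ |>.1
      ((isOfFinOrder_of_finite f).mem_powers_iff_mem_zpowers.2 hy)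
    exact ⟨⟨s, hs⟩, j, by rw [← hj]⟩
  obtain ⟨m, hm⟩ := D.f_ord
  have hP : IsPGroup 5 ↥((zpowers w).subgroupOf W) :=
    (IsPGroup.iff_orderOf.2 fun x => by
      obtain ⟨k, -, hk⟩ := (Nat.dvd_prime_pow (by norm_num)).1
        ((_root_.orderOf_dvd_natCard x).trans
          ((Nat.card_zpowers w).symm ▸ orderOf_dvd_of_pow_eq_one hn))
      exact ⟨k, hk⟩ :
      IsPGroup 5 ↥(zpowers w)).of_equiv (subgroupOfEquivOfLe (zpowers_le.2 hw)).symm
  have hF : IsPGroup 5 ↥((zpowers f).subgroupOf W) :=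
    (IsPGroup.of_card (n := m + 1) (by rw [Nat.card_zpowers, hm]) :
      IsPGroup 5 ↥(zpowers f)).of_equiv (subgroupOfEquivOfLe le_sup_right).symm
  obtain ⟨P, hP'⟩ := hP.exists_le_sylow
  obtain ⟨Q, hQ⟩ := hF.exists_le_sylow
  obtain ⟨g, hg⟩ := MulAction.exists_smul_eq ↥W Q P
  have hwP : (⟨w, hw⟩ : ↥W) ∈ (P : Subgroup ↥W) := hP' (mem_subgroupOf.2 (mem_zpowers w))
  rw [← hg, Sylow.coe_subgroup_smul] at hwP
  obtain ⟨q, hq, hqw⟩ := (mem_smul_pointwise_iff_exists _ _ _).1 hwP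
  obtain ⟨t, j, htj⟩ := hmem q q.2
  -- `Q` meets `S` trivially
  have hfQ : (⟨f ^ j, mem_sup_right (pow_mem (mem_zpowers f) j)⟩ : ↥W) ∈ (Q : Subgroup ↥W) :=
    hQ (mem_subgroupOf.2 (pow_mem (mem_zpowers f) j))
  have htQ : (⟨(t : G), mem_sup_left t.2⟩ : ↥W) ∈ (Q : Subgroup ↥W) := by
    have : (⟨(t : G), mem_sup_left t.2⟩ : ↥W) =
        q * (⟨f ^ j, mem_sup_right (pow_mem (mem_zpowers f) j)⟩ : ↥W)⁻¹ :=
      Subtype.ext (by show (t : G) = (q : G) * (f ^ j)⁻¹; rw [htj, mul_inv_cancel_right])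
    rw [this]
    exact mul_mem hq (inv_mem hfQ)
  haveI : Fact (Nat.Prime 2) := ⟨Nat.prime_two⟩
  obtain ⟨e, he⟩ := IsPGroup.iff_orderOf.1 S.2 t
  obtain ⟨e', he'⟩ := IsPGroup.iff_orderOf.1 Q.2 ⟨_, htQ⟩
  rw [Subgroup.orderOf_mk, Subgroup.orderOf_mk] at he'
  rw [← Subgroup.orderOf_coe] at he
  have ht1 : (t : G) = 1 := orderOf_eq_one_iff.1 (Nat.eq_one_of_dvd_coprimes
    ((Nat.coprime_primes Nat.prime_two (by norm_num)).2 (by norm_num) |>.pow e e') he.dvd he'.dvd)
  obtain ⟨s, l, hsl⟩ := hmem g g.2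
  refine ⟨s, j, ?_⟩
  have hw' : (g : G) * (q : G) * (g : G)⁻¹ = w := congrArg Subtype.val hqw
  rw [← hw', htj, ht1, one_mul, hsl]
  calc (s : G) * f ^ l * f ^ j * ((s : G) * f ^ l)⁻¹
      = (s : G) * (f ^ l * f ^ j * (f ^ l)⁻¹) * (s : G)⁻¹ := by group
    _ = _ := by rw [← pow_add, add_comm, pow_add, mul_inv_cancel_right]

theorem conj_S (s : ↥(S : Subgroup G)) : ∀ l ∈ L, (s : G) * l * (s : G)⁻¹ ∈ L := A.conj_mem s s.2

theorem conj_pow (i : ℕ) : ∀ l ∈ L, f ^ i * l * (f ^ i)⁻¹ ∈ L := by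
  induction i with
  | zero => intro l hl; simpa using hl
  | succ i ih =>
    intro l hl
    rw [pow_succ', show f * f ^ i * l * (f * f ^ i)⁻¹ = f * (f ^ i * l * (f ^ i)⁻¹) * f⁻¹ by group]
    exact A.conj_f _ (ih l hl)

/-- A non-trivial power class of `f` fixes only the trivial linear character. -/
theorem eq_one_of_fixed {j : ℕ} (hj : ¬ 5 ∣ j) {μ : LinL L}
    (h : ∀ l : ↥L, μ (conjL (conj_pow D A j) l) = μ l) : μ = 1 := by
  obtain ⟨m, hm⟩ := D.f_ord
  have hcop : j.Coprime (orderOf f) := by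
    rw [hm]
    exact (((Nat.Prime.coprime_iff_not_dvd (by norm_num)).2 hj).pow_left _).symm
  obtain ⟨n, hn⟩ := exists_pow_eq_self_of_coprime hcop
  let g : ↥L → ↥L := fun l => conjL (conj_pow D A j) l * l⁻¹
  have hg : Function.Injective g := by
    intro l l' he
    have e : f ^ j * l * (f ^ j)⁻¹ * (l : G)⁻¹ = f ^ j * l' * (f ^ j)⁻¹ * (l' : G)⁻¹ :=
      congrArg Subtype.val he
    have h1 : f ^ j * ((l' : G)⁻¹ * l) * (f ^ j)⁻¹ = (l' : G)⁻¹ * l := by
      calc f ^ j * ((l' : G)⁻¹ * l) * (f ^ j)⁻¹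
          = (f ^ j * l' * (f ^ j)⁻¹)⁻¹ * (f ^ j * l * (f ^ j)⁻¹ * (l : G)⁻¹) * l := by group
        _ = (l' : G)⁻¹ * l := by rw [e]; group
    have h2 : f * ((l' : G)⁻¹ * l) = (l' : G)⁻¹ * l * f := by
      conv_lhs => rw [← hn]
      conv_rhs => rw [← hn]
      exact ((show Commute (f ^ j) ((l' : G)⁻¹ * l) from mul_inv_eq_iff_eq_mul.1 h1).pow_left n).eq
    exact Subtype.ext (inv_mul_eq_one.1 (A.fix _ (mul_mem (inv_mem l'.2) l.2) h2)).symm
  refine MonoidHom.ext fun y => ?_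
  obtain ⟨l, rfl⟩ := Finite.injective_iff_surjective.1 hg y
  show μ (conjL _ l * l⁻¹) = 1
  rw [map_mul, map_inv, h, mul_inv_cancel]

/-- The stabiliser of a linear character in `S`. -/
def stab (μ : LinL L) : Subgroup ↥(S : Subgroup G) where
  carrier := {s | ∀ l : ↥L, μ (conjL (conj_S D A s) l) = μ l}
  one_mem' l := congrArg μ (Subtype.ext (by simp [conjL]))
  mul_mem' {s t} hs ht l := by
    rw [show conjL (conj_S D A (s * t)) l = conjL (conj_S D A s) (conjL (conj_S D A t) l) from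
      Subtype.ext (by simp [conjL, mul_assoc]), hs, ht]
  inv_mem' {s} hs l := by
    rw [← hs (conjL (conj_S D A s⁻¹) l)]
    exact congrArg μ (Subtype.ext (by simp [conjL, mul_assoc]))

theorem stab_center {μ : LinL L} (hμ : μ ≠ 1) {z : ↥(S : Subgroup G)} (hz : z ∈ stab D A μ)
    (hzc : z ∈ center ↥(S : Subgroup G)) (hz1 : z ≠ 1) : z = a := by
  by_contra hza
  refine hμ (MonoidHom.ext fun l => ?_)
  have h := hz l
  rw [show conjL (conj_S D A z) l = l⁻¹ from Subtype.ext (A.inverted z hzc hz1 hza l l.2),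
    map_inv, inv_eq_iff_mul_eq_one] at h
  have hodd : Odd (orderOf l) := by
    rw [← Subgroup.orderOf_coe]; exact D.core_odd (A.le_core l.2)
  obtain ⟨e, he⟩ := hodd
  show μ l = 1
  have h2 : μ l ^ orderOf l = 1 := by rw [← map_pow, pow_orderOf_eq_one, map_one]
  rwa [he, pow_succ, pow_mul, pow_two, h, one_pow, one_mul] at h2

variable {M : Ideal Cfsg.AlgInt} (hM : Cfsg.IsPModular 2 M)

include hM in
/-- The values on `L t` for an element `t` of the stabiliser. -/
theorem apply_stab {μ : LinL L} (hμ : μ ≠ 1) {t : ↥(S : Subgroup G)} (ht : t ∈ stab D A μ)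
    (ht1 : t ≠ 1) (k : ↥L) {χ : Cfsg.IrrCharacter G} (hχ : χ ∈ Section.blk G M) :
    (χ : G → ℂ) (k * t) = (χ : G → ℂ) t := by
  by_cases htc : t ∈ center ↥(S : Subgroup G)
  · rw [stab_center D A hμ ht htc ht1]
    have h := D.apply_core hM (A.le_core k.2) 0 hχ
    rw [pow_zero, mul_one] at h
    rw [← h, mem_centralizer_singleton_iff.1 (D.core_le (A.le_core k.2))]
  have htt : t * t = a :=
    stab_center D A hμ (mul_mem ht ht) (D.sq t) fun h => htc (D.invol t h)
  obtain ⟨⟨K, hK⟩, -⟩ := D.exists_sec htc htt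
  have haL : ∀ l : G, l ∈ L → (a : G) * l * (a : G)⁻¹ = l := fun l hl =>
    mul_inv_eq_iff_eq_mul.2 (mem_centralizer_singleton_iff.1 (D.core_le (A.le_core hl))).symm
  have hτ : ∀ l ∈ L, (t : G) * l * (t : G)⁻¹ ∈ L := A.conj_mem t t.2
  have hττ : ∀ l ∈ L, (t : G) * ((t : G) * l * (t : G)⁻¹) * (t : G)⁻¹ = l := fun l hl => by
    calc (t : G) * ((t : G) * l * (t : G)⁻¹) * (t : G)⁻¹
        = ((t * t : ↥(S : Subgroup G)) : G) * l * ((t * t : ↥(S : Subgroup G)) : G)⁻¹ := by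
          push_cast; group
      _ = l := by rw [htt]; exact haL l hl
  obtain ⟨e, he⟩ : Odd (orderOf (k : G)) := D.core_odd (A.le_core k.2)
  -- a conjugate commuting with `t`
  set l := (k : G) ^ e with hl
  have hlL : l ∈ L := pow_mem k.2 e
  have hk2 : l * l = (k : G)⁻¹ := by
    rw [hl, ← pow_add, eq_inv_iff_mul_eq_one, ← pow_succ, ← two_mul, ← he, pow_orderOf_eq_one]
  set y := (k : G) * (l * ((t : G) * l⁻¹ * (t : G)⁻¹)) with hy
  have hyL : y ∈ L := mul_mem k.2 (mul_mem hlL (hτ _ (inv_mem hlL)))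
  have hy2 : (t : G) * y * (t : G)⁻¹ = y := by
    set k' := (t : G) * k * (t : G)⁻¹ with hk'
    set l' := (t : G) * l * (t : G)⁻¹ with hl'
    have e1 : (t : G) * y * (t : G)⁻¹ = k' * (l' * l⁻¹) := by
      rw [hy, show (t : G) * ((k : G) * (l * ((t : G) * l⁻¹ * (t : G)⁻¹))) * (t : G)⁻¹ =
        k' * (l' * ((t : G) * ((t : G) * l⁻¹ * (t : G)⁻¹) * (t : G)⁻¹)) by
          rw [hk', hl']; group, hττ _ (inv_mem hlL)]
    have e2 : l' * l' = k'⁻¹ := by
      rw [hl', hk', show (t : G) * l * (t : G)⁻¹ * ((t : G) * l * (t : G)⁻¹) =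
        (t : G) * (l * l) * (t : G)⁻¹ by group, hk2]
      group
    have e3 : y = (k : G) * (l * l'⁻¹) := by rw [hy, hl']; group
    have hk'e : k' = l'⁻¹ * l'⁻¹ := by rw [← mul_inv_rev, e2, inv_inv]
    have hke : (k : G) = l⁻¹ * l⁻¹ := by rw [← mul_inv_rev, hk2, inv_inv]
    rw [e1, e3, hk'e, hke]
    have hc : Commute l l' := A.comm _ hlL _ (hτ l hlL)
    calc l'⁻¹ * l'⁻¹ * (l' * l⁻¹) = l'⁻¹ * l⁻¹ := by group
      _ = l⁻¹ * l'⁻¹ := (hc.inv_left.inv_right).eq.symm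
      _ = _ := by group
  have hyt : y * (t : G) = t * y := (mul_inv_eq_iff_eq_mul.1 hy2).symm
  have hconj : l * ((k : G) * t) * l⁻¹ = (t : G) * y := by
    rw [← hyt, hy, show l * ((k : G) * t) * l⁻¹ = l * (k : G) * ((t : G) * l⁻¹ * (t : G)⁻¹) * t by
      group, A.comm l hlL k k.2]
    group
  rw [← isClassFunction_irr χ ((k : G) * t) l, hconj]
  exact Section.apply_eq M hM hK (hK.mem_of_odd hyt (D.core_odd (A.le_core hyL))) hχ

/-- The action of the stabiliser on `L`. -/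
noncomputable def actL (μ : LinL L) : ↥(stab D A μ) →* MulAut ↥L :=
  MonoidHom.mk' (fun t => MulEquiv.ofBijective (conjL (conj_S D A t.1))
    (Finite.injective_iff_bijective.1 (conjL_injective _))) fun s t => MulEquiv.ext fun l =>
      Subtype.ext (by simp [conjL, mul_assoc])

include hM in
/-- The multiplicity is a multiple of the order of the stabiliser. -/
theorem dvd_mult [Fintype ↥L] {μ : LinL L} (hμ : μ ≠ 1) {χ : Cfsg.IrrCharacter G}
    (hχ : χ ∈ Section.blk G M) : Nat.card ↥(stab D A μ) ∣ mult χ μ := by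
  set T := stab D A μ
  letI := Fintype.ofFinite ↥T
  let e := SemidirectProduct.equivProd (φ := actL D A μ)
  letI : Fintype (↥L ⋊[actL D A μ] ↥T) := Fintype.ofEquiv _ e.symm
  let ι : (↥L ⋊[actL D A μ] ↥T) →* G :=
    SemidirectProduct.lift L.subtype ((S : Subgroup G).subtype.comp T.subtype)
      fun t => MonoidHom.ext fun l => rfl
  let Λ : (↥L ⋊[actL D A μ] ↥T) →* ℂˣ :=
    SemidirectProduct.lift μ 1 fun t => MonoidHom.ext fun l => by
      show μ (conjL (conj_S D A t.1) l) = 1 * μ l * 1⁻¹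
      rw [t.2 l]; simp
  obtain ⟨n, hn⟩ := exists_classInner_nat (isCharacter_comp ι (isCharacter_irr χ))
    (Induced.Character.isCharacter_hom Λ)
  rw [Cfsg.classInner, inv_mul_eq_iff_eq_mul₀ (Nat.cast_ne_zero.2 Nat.card_pos.ne')] at hn
  have hcard : Nat.card (↥L ⋊[actL D A μ] ↥T) = Nat.card L * Nat.card T := by
    rw [Nat.card_congr e, Nat.card_prod]
  have hsum : ∀ g : ↥L ⋊[actL D A μ] ↥T, ((χ : G → ℂ) ∘ ι) g * conj (Λ g : ℂ) =
      (χ : G → ℂ) ((g.left : G) * ((g.right : ↥(S : Subgroup G)) : G)) * conj (μ g.left : ℂ) := by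
    intro g
    simp [ι, Λ, SemidirectProduct.lift]
  rw [Finset.sum_congr rfl fun g _ => hsum g,
    Fintype.sum_equiv e (fun g : ↥L ⋊[actL D A μ] ↥T =>
      (χ : G → ℂ) ((g.left : G) * ((g.right : ↥(S : Subgroup G)) : G)) * conj (μ g.left : ℂ))
      (fun p : ↥L × ↥T =>
      (χ : G → ℂ) ((p.1 : G) * ((p.2 : ↥(S : Subgroup G)) : G)) * conj (μ p.1 : ℂ)) fun g => rfl,
    Fintype.sum_prod_type_right, Finset.sum_eq_single (1 : ↥T)] at hn
  · simp only [OneMemClass.coe_one, mul_one] at hn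
    rw [mult_spec, hcard] at hn
    push_cast at hn
    rw [mul_assoc] at hn
    exact ⟨n, by exact_mod_cast mul_left_cancel₀ (Nat.cast_ne_zero.2 Nat.card_pos.ne') hn⟩
  · intro t _ ht
    rw [Finset.sum_congr rfl fun k _ => by
      rw [apply_stab D A hM hμ t.2 (fun h => ht (Subtype.ext h)) k hχ], ← Finset.mul_sum]
    refine mul_eq_zero_of_right _ ?_
    obtain ⟨l, hl⟩ : ∃ l, μ l ≠ 1 := by
      by_contra h
      push Not at h
      exact hμ (MonoidHom.ext h)
    have hs : (μ l : ℂ) * ∑ k : ↥L, (μ k : ℂ) = ∑ k : ↥L, (μ k : ℂ) := by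
      rw [Finset.mul_sum]
      exact Fintype.sum_equiv (Equiv.mulLeft l) _ _ fun k => by simp
    rw [← map_sum, show ∑ k : ↥L, (μ k : ℂ) = 0 from by
      by_contra h
      exact hl (Units.ext (mul_left_eq_self₀.1 hs |>.resolve_right h)), map_zero]
  · exact fun h => absurd (Finset.mem_univ _) h

omit hM in
/-- An element of `S⟨f⟩` in normal form, raised to a power. -/
theorem exists_mul_pow (s : ↥(S : Subgroup G)) (e k : ℕ) :
    ∃ t : ↥(S : Subgroup G), ((s : G) * f ^ e) ^ k = (t : G) * f ^ (e * k) := by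
  induction k with
  | zero => exact ⟨1, by simp⟩
  | succ k ih =>
    obtain ⟨t, ht⟩ := ih
    obtain ⟨u, hu⟩ := D.exists_conj_f (e * k) s
    refine ⟨t * u, ?_⟩
    rw [pow_succ, ht, coe_mul, hu, Nat.mul_succ, pow_add]
    group

include hM in
/-- **The degree bound.** -/
theorem le_degree [IsSimpleGroup G] {χ : Cfsg.IrrCharacter G}
    (hχ : χ ∈ Section.blk G M) (h1 : χ ≠ oneChar G) {n : ℕ} (hn : (χ : G → ℂ) 1 = n) :
    320 ≤ n := by
  letI := Fintype.ofFinite G
  letI := Fintype.ofFinite ↥L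
  haveI := finite_lin A.comm
  letI := Fintype.ofFinite (LinL L)
  letI := Fintype.ofFinite ↥(S : Subgroup G)
  have hdeg : n = ∑ μ : LinL L, mult χ μ := by
    have h := apply_eq_sum A.comm χ (1 : ↥L)
    simp only [OneMemClass.coe_one, map_one, Units.val_one, mul_one, hn] at h
    exact_mod_cast h
  obtain ⟨μ, hμ, hm⟩ : ∃ μ : LinL L, μ ≠ 1 ∧ mult χ μ ≠ 0 := by
    by_contra hall
    push Not at hall
    obtain ⟨g, hg⟩ : ∃ g : G, (χ : G → ℂ) g ≠ (χ : G → ℂ) 1 := by
      by_contra htriv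
      push Not at htriv
      refine h1 (Subtype.ext (funext fun g => ?_))
      have hconst : ∀ g : G, (χ : G → ℂ) g = (n : ℂ) := fun g => (htriv g).trans hn
      have hs := classInner_self_irr χ
      rw [Cfsg.classInner] at hs
      simp only [hconst, Finset.sum_const, Finset.card_univ, ← Nat.card_eq_fintype_card,
        nsmul_eq_mul, Complex.conj_natCast, ← mul_assoc, inv_mul_cancel₀
          (Nat.cast_ne_zero.2 (Nat.card_pos (α := G)).ne' : (Nat.card G : ℂ) ≠ 0), one_mul] at hs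
      rw [hconst, oneChar_apply]
      have : n * n = 1 := by exact_mod_cast hs
      simp [Nat.eq_one_of_mul_eq_one_right this]
    have h := Characters.Kernel.charKer_eq_bot_of_simple (isCharacter_irr χ) hg
    obtain ⟨⟨l, hlL⟩, hl1⟩ : ∃ l : ↥L, l ≠ 1 := by
      by_contra hall'
      push Not at hall'
      exact A.ne_bot (eq_bot_iff.2 fun l hl => Subgroup.mem_bot.2
        (congrArg Subtype.val (hall' ⟨l, hl⟩)))
    refine hl1 (Subtype.ext ?_)
    have hmem : l ∈ Characters.Kernel.charKer (isCharacter_irr χ) := by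
      rw [Characters.Kernel.mem_charKer]
      have hone : ∀ x : ↥L, (χ : G → ℂ) x = (mult χ (1 : LinL L) : ℂ) := fun x => by
        rw [apply_eq_sum A.comm χ x, Finset.sum_eq_single (1 : LinL L)]
        · simp
        · intro μ _ hμ
          simp [hall μ hμ]
        · exact fun h => absurd (Finset.mem_univ _) h
      rw [hone ⟨l, hlL⟩, ← hone 1, OneMemClass.coe_one]
    rwa [h, Subgroup.mem_bot] at hmem
  -- the orbit
  let u : ↥(S : Subgroup G) × Fin 5 → G := fun p => (p.1 : G) * f ^ (p.2 : ℕ)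
  have hu : ∀ p, ∀ l ∈ L, u p * l * (u p)⁻¹ ∈ L := fun p l hl => by
    show (p.1 : G) * f ^ (p.2 : ℕ) * l * ((p.1 : G) * f ^ (p.2 : ℕ))⁻¹ ∈ L
    rw [show (p.1 : G) * f ^ (p.2 : ℕ) * l * ((p.1 : G) * f ^ (p.2 : ℕ))⁻¹ =
      (p.1 : G) * (f ^ (p.2 : ℕ) * l * (f ^ (p.2 : ℕ))⁻¹) * (p.1 : G)⁻¹ by group]
    exact conj_S D A p.1 _ (conj_pow D A _ l hl)
  let Φ : ↥(S : Subgroup G) × Fin 5 → LinL L := fun p => μ.comp (conjL (hu p))
  -- the elements fixing `μ`
  let Fx : Subgroup G :=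
    { carrier := {v | ∀ l : ↥L, ∃ m : ↥L, (m : G) = v * l * v⁻¹ ∧ μ m = μ l}
      one_mem' := fun l => ⟨l, by simp, rfl⟩
      mul_mem' := fun {v v'} hv hv' l => by
        obtain ⟨m, hm, e⟩ := hv' l
        obtain ⟨m', hm', e'⟩ := hv m
        exact ⟨m', by rw [hm', hm]; group, e'.trans e⟩
      inv_mem' := fun {v} hv l => by
        choose g hg hge using hv
        obtain ⟨x, hx⟩ := (Finite.injective_iff_surjective (f := g)).1 (fun x y h => Subtype.ext (by
          simpa [hg] using congrArg Subtype.val h)) l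
        refine ⟨x, ?_, by rw [← hge x, hx]⟩
        rw [← hx, hg]; group }
  have hfib : ∀ p p' : ↥(S : Subgroup G) × Fin 5, Φ p' = Φ p →
      p'.2 = p.2 ∧ p'.1 * p.1⁻¹ ∈ stab D A μ := by
    intro p p' he
    have hwF : u p' * (u p)⁻¹ ∈ Fx := fun l => by
      obtain ⟨l₀, hl₀⟩ := Finite.injective_iff_surjective.1 (conjL_injective (hu p)) l
      refine ⟨conjL (hu p') l₀, ?_, ?_⟩
      · show u p' * l₀ * (u p')⁻¹ = _
        rw [← hl₀, show ((conjL (hu p) l₀ : ↥L) : G) = u p * l₀ * (u p)⁻¹ from rfl]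
        group
      · rw [← hl₀]
        exact DFunLike.congr_fun he l₀
    obtain ⟨m, hord⟩ := D.f_ord
    have hilt : (p.2 : ℕ) < orderOf f := p.2.2.trans_le (by
      rw [hord, pow_succ]; exact Nat.le_mul_of_pos_left _ (by positivity))
    have hi2 : p'.2 = p.2 := by
      by_contra hne
      set e := (p'.2 : ℕ) + (orderOf f - (p.2 : ℕ)) with he'
      obtain ⟨v, hv⟩ := D.exists_conj_f e p.1⁻¹
      have hw : u p' * (u p)⁻¹ = ((p'.1 * v : ↥(S : Subgroup G)) : G) * f ^ e := by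
        show (p'.1 : G) * f ^ (p'.2 : ℕ) * ((p.1 : G) * f ^ (p.2 : ℕ))⁻¹ = _
        have hinv : (f ^ (p.2 : ℕ))⁻¹ = f ^ (orderOf f - (p.2 : ℕ)) := by
          rw [inv_eq_iff_mul_eq_one, ← pow_add, Nat.add_sub_cancel' hilt.le, pow_orderOf_eq_one]
        rw [coe_mul, hv, mul_inv_rev, hinv, he', pow_add]
        push_cast
        group
      obtain ⟨t, ht⟩ := exists_mul_pow D A (p'.1 * v) e 64
      obtain ⟨t', ht'⟩ := exists_mul_pow D A (p'.1 * v) e (5 ^ (m + 1))
      have hmemW : u p' * (u p)⁻¹ ∈ (S : Subgroup G) ⊔ zpowers f := by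
        rw [hw]
        exact mul_mem (mem_sup_left (SetLike.coe_mem _))
          (mem_sup_right (pow_mem (mem_zpowers f) _))
      have hone : ((u p' * (u p)⁻¹) ^ 64) ^ 5 ^ (m + 1) = 1 := by
        rw [← pow_mul, mul_comm, pow_mul, hw, ht', pow_mul', ← hord, pow_orderOf_eq_one, one_pow,
          mul_one, ← coe_pow, ← D.card, pow_card_eq_one', coe_one]
      obtain ⟨s, j, hsj⟩ := exists_pow D A (pow_mem hmemW 64) (m + 1) hone
      obtain ⟨q, hq⟩ := D.exists_conj_f j s⁻¹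
      have heq : (1 : G) * (t : G) * f ^ (e * 64) =
          1 * ((s * q : ↥(S : Subgroup G)) : G) * f ^ j := by
        rw [one_mul, one_mul, ← ht, ← hw, hsj, coe_mul, hq]
        push_cast
        group
      obtain ⟨hmod, -⟩ := D.split_unique (one_mem _) (one_mem _) heq
      have h5 : 5 ∣ orderOf f := hord ▸ dvd_pow_self 5 (Nat.succ_ne_zero m)
      have hne' : (p'.2 : ℕ) ≠ (p.2 : ℕ) := fun h => hne (Fin.ext h)
      have hj : ¬ 5 ∣ j := by
        have := p.2.2; have := p'.2.2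
        omega
      have hF : (s : G) * f ^ j * (s : G)⁻¹ ∈ Fx := hsj ▸ pow_mem hwF 64
      have hfix := eq_one_of_fixed D A hj (μ := μ.comp (conjL (conj_S D A s))) fun l => by
        obtain ⟨x, hx, hxe⟩ := hF (conjL (conj_S D A s) l)
        refine ((congrArg μ (Subtype.ext ?_)).trans hxe :)
        show (s : G) * (f ^ j * (l : G) * (f ^ j)⁻¹) * (s : G)⁻¹ = x
        rw [hx, show ((conjL (conj_S D A s) l : ↥L) : G) = (s : G) * l * (s : G)⁻¹ from rfl]
        group
      refine hμ (MonoidHom.ext fun l => ?_)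
      obtain ⟨l₀, rfl⟩ := Finite.injective_iff_surjective.1 (conjL_injective (conj_S D A s)) l
      exact DFunLike.congr_fun hfix l₀
    refine ⟨hi2, fun l => ?_⟩
    obtain ⟨x, hx, hxe⟩ := hwF l
    refine ((congrArg μ (Subtype.ext ?_)).trans hxe :)
    show ((p'.1 * p.1⁻¹ : ↥(S : Subgroup G)) : G) * l *
      ((p'.1 * p.1⁻¹ : ↥(S : Subgroup G)) : G)⁻¹ = x
    rw [hx]
    show _ = (p'.1 : G) * f ^ (p'.2 : ℕ) * ((p.1 : G) * f ^ (p.2 : ℕ))⁻¹ * l *
      ((p'.1 : G) * f ^ (p'.2 : ℕ) * ((p.1 : G) * f ^ (p.2 : ℕ))⁻¹)⁻¹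
    rw [hi2]
    push_cast
    group
  -- counting
  letI := Fintype.ofFinite ↥(stab D A μ)
  have hcount : (Finset.univ : Finset (↥(S : Subgroup G) × Fin 5)).card ≤
      Nat.card ↥(stab D A μ) * (Finset.univ.image Φ).card := by
    refine Finset.card_le_mul_card_image _ _ fun ν hν => ?_
    obtain ⟨p, -, hp⟩ := Finset.mem_image.1 hν
    rw [Nat.card_eq_fintype_card, ← Finset.card_univ]
    refine Finset.card_le_card_of_injOn (fun p' => if h : p'.1 * p.1⁻¹ ∈ stab D A μ then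
      (⟨_, h⟩ : ↥(stab D A μ)) else 1) (fun _ _ => Finset.mem_coe.2 (Finset.mem_univ _)) ?_
    intro p' hp' p'' hp'' he
    obtain ⟨h2, h3⟩ := hfib p p' ((Finset.mem_filter.1 hp').2.trans hp.symm)
    obtain ⟨h2', h3'⟩ := hfib p p'' ((Finset.mem_filter.1 hp'').2.trans hp.symm)
    simp only [dif_pos h3, dif_pos h3', Subtype.mk.injEq, mul_left_inj] at he
    exact Prod.ext he (h2.trans h2'.symm)
  rw [Finset.card_univ, Fintype.card_prod, ← Nat.card_eq_fintype_card, D.card,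
    Fintype.card_fin] at hcount
  have hT : Nat.card ↥(stab D A μ) ≤ mult χ μ :=
    Nat.le_of_dvd (Nat.pos_of_ne_zero hm) (dvd_mult D A hM hμ hχ)
  calc 320 ≤ Nat.card ↥(stab D A μ) * (Finset.univ.image Φ).card := hcount
    _ ≤ mult χ μ * (Finset.univ.image Φ).card := Nat.mul_le_mul_right _ hT
    _ = ∑ ν ∈ Finset.univ.image Φ, mult χ ν := by
      rw [Finset.sum_const_nat (m := mult χ μ), mul_comm]
      intro ν hν
      obtain ⟨p, -, rfl⟩ := Finset.mem_image.1 hν
      exact mult_conj χ μ (hu p)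
    _ ≤ n := by
      rw [hdeg]
      exact Finset.sum_le_univ_sum_of_nonneg fun _ => Nat.zero_le _

end Cfsg.Agent.Lib.PiHomog3258.Five.Degree
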