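import Cfsg.Agent.Lib.PiHomog3258.Five.Sect

/-!
# The configuration `U₃(4)` with an element of order five

`S` has order 64, `a` is an involution of its centre, `x₀` a square root of `a` to which all
non-central elements of `S` are conjugate, and `f` an element of order 5 acting on `S` with
`C(a) = O(C(a)) S ⟨f⟩`.  The abelian subgroup `L` of `O(C(a))` is inverted by the other central
involutions and has no fixed point under `f`.
-/

set_option autoImplicit false
set_option linter.style.haveILetI false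
set_option linter.unusedSectionVars false

namespace Cfsg.Agent.Lib.PiHomog3258.Five

open Subgroup

universe u

attribute [local instance] Classical.propDecidable

variable {G : Type u} [Group G] [Finite G]

/-- The hypotheses. -/
structure Config (S : Sylow 2 G) (a x₀ : ↥(S : Subgroup G)) (f : G) : Prop where
  card : Nat.card ↥(S : Subgroup G) = 64
  card_center : Nat.card ↥(center ↥(S : Subgroup G)) = 4
  sq : ∀ x : ↥(S : Subgroup G), x * x ∈ center ↥(S : Subgroup G)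
  invol : ∀ x : ↥(S : Subgroup G), x * x = 1 → x ∈ center ↥(S : Subgroup G)
  center_sq : ∀ z ∈ center ↥(S : Subgroup G), z * z = 1
  card_cent : ∀ x : ↥(S : Subgroup G), x ∉ center ↥(S : Subgroup G) →
    Nat.card {t : ↥(S : Subgroup G) // t * x = x * t} = 16
  a_mem : a ∈ center ↥(S : Subgroup G)
  a_ne : a ≠ 1
  x₀_sq : x₀ * x₀ = a
  conj : ∀ x : ↥(S : Subgroup G), x ∉ center ↥(S : Subgroup G) → IsConj (x₀ : G) (x : G)
  conj_center : ∀ z ∈ center ↥(S : Subgroup G), z ≠ 1 → IsConj (a : G) (z : G)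
  f_ord : ∃ n : ℕ, orderOf f = 5 ^ (n + 1)
  f_five : f ^ 5 ∈ Cfsg.centralizerPPrimeCore 2 (a : G)
  f_norm : f ∈ normalizer ((S : Subgroup G) : Set G)
  f_center : ∀ z ∈ center ↥(S : Subgroup G), f * (z : G) = z * f
  f_fix : ∀ s : ↥(S : Subgroup G), f * (s : G) = s * f → s ∈ center ↥(S : Subgroup G)
  split : ∀ c ∈ centralizer ({(a : G)} : Set G), ∃ k ∈ Cfsg.centralizerPPrimeCore 2 (a : G),
    ∃ (s : ↥(S : Subgroup G)) (i : Fin 5), c = k * (s : G) * f ^ (i : ℕ)
  psolv : Cfsg.IsPSolvable 2 ↥(centralizer ({(a : G)} : Set G))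

/-- The hypotheses on the abelian subgroup `L`, inverted by the central involutions other than `a`. -/
structure Acts (S : Sylow 2 G) (a : ↥(S : Subgroup G)) (f : G) (L : Subgroup G) : Prop where
  le_core : L ≤ Cfsg.centralizerPPrimeCore 2 (a : G)
  ne_bot : L ≠ ⊥
  comm : ∀ l ∈ L, ∀ m ∈ L, l * m = m * l
  conj_mem : ∀ s ∈ (S : Subgroup G), ∀ l ∈ L, s * l * s⁻¹ ∈ L
  conj_f : ∀ l ∈ L, f * l * f⁻¹ ∈ L
  inverted : ∀ z ∈ center ↥(S : Subgroup G), z ≠ 1 → z ≠ a →
    ∀ l ∈ L, (z : G) * l * (z : G)⁻¹ = l⁻¹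
  fix : ∀ l ∈ L, f * l = l * f → l = 1

namespace Config

variable {S : Sylow 2 G} {a x₀ : ↥(S : Subgroup G)} {f : G}

/-- `O(C(a))`. -/
abbrev core (a : G) : Subgroup G := Cfsg.centralizerPPrimeCore 2 a

variable (D : Config S a x₀ f)
include D

theorem core_le : core (a : G) ≤ centralizer ({(a : G)} : Set G) := map_subtype_le _

theorem core_odd {k : G} (hk : k ∈ core (a : G)) : Odd (orderOf k) := by
  haveI : Fact (Nat.Prime 2) := ⟨Nat.prime_two⟩
  obtain ⟨c, hc, rfl⟩ := hk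
  rw [Subgroup.coe_subtype, Subgroup.orderOf_coe, Nat.odd_iff, ← Nat.two_dvd_ne_zero]
  exact fun h' => Cores.not_dvd_card_pPrimeCore 2 (h'.trans (Subgroup.orderOf_dvd_natCard _ hc))

theorem card_core_odd : Odd (Nat.card ↥(core (a : G))) := by
  haveI : Fact (Nat.Prime 2) := ⟨Nat.prime_two⟩
  rw [show Nat.card ↥(core (a : G)) = Nat.card ↥(Cfsg.pPrimeCore 2
    ↥(centralizer ({(a : G)} : Set G))) from card_map_of_injective (subtype_injective _),
    Nat.odd_iff, ← Nat.two_dvd_ne_zero]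
  exact Cores.not_dvd_card_pPrimeCore 2

theorem core_conj {c k : G} (hc : c ∈ centralizer ({(a : G)} : Set G)) (hk : k ∈ core (a : G)) :
    c * k * c⁻¹ ∈ core (a : G) := by
  obtain ⟨k, hk, rfl⟩ := hk
  exact ⟨⟨c, hc⟩ * k * ⟨c, hc⟩⁻¹,
    (Cfsg.pPrimeCore_normal 2 _).conj_mem k hk ⟨c, hc⟩, rfl⟩

theorem mem_cent (s : ↥(S : Subgroup G)) : (s : G) ∈ centralizer ({(a : G)} : Set G) :=
  mem_centralizer_singleton_iff.2 (congrArg Subtype.val (mem_center_iff.1 D.a_mem s))

theorem f_mem : f ∈ centralizer ({(a : G)} : Set G) :=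
  mem_centralizer_singleton_iff.2 (D.f_center a D.a_mem)

theorem core_inf {k : G} (hk : k ∈ core (a : G)) (hS : k ∈ (S : Subgroup G)) : k = 1 := by
  haveI : Fact (Nat.Prime 2) := ⟨Nat.prime_two⟩
  obtain ⟨n, hn⟩ := IsPGroup.iff_orderOf.1 S.2 ⟨k, hS⟩
  rw [Subgroup.orderOf_mk] at hn
  refine orderOf_eq_one_iff.1 ?_
  rcases n with - | n
  · simpa using hn
  · have := D.core_odd hk
    rw [hn, Nat.odd_iff, pow_succ] at this
    omega

/-- Conjugation by an element of the core does not move `S`-elements inside `S`. -/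
theorem core_fix {k : G} (hk : k ∈ core (a : G)) {u v : ↥(S : Subgroup G)}
    (h : k * (u : G) * k⁻¹ = v) : u = v ∧ k * (u : G) = u * k := by
  have h1 : k * (u : G) * k⁻¹ * (u : G)⁻¹ ∈ core (a : G) := by
    have := mul_mem hk (D.core_conj (D.mem_cent u) (inv_mem hk))
    simpa [mul_assoc] using this
  have h2 := mul_inv_eq_one.1 (D.core_inf h1 (by rw [h]; exact mul_mem v.2 (inv_mem u.2)))
  exact ⟨Subtype.ext (h2.symm.trans h), mul_inv_eq_iff_eq_mul.1 h2⟩

/-- The automorphism of `S` induced by `f`. -/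
theorem exists_conj_f (i : ℕ) (s : ↥(S : Subgroup G)) :
    ∃ t : ↥(S : Subgroup G), (t : G) = f ^ i * s * (f ^ i)⁻¹ :=
  ⟨⟨_, (mem_normalizer_iff.1 (pow_mem D.f_norm i) _).1 s.2⟩, rfl⟩

theorem f_pow_five (i : ℕ) : f ^ (5 * i) ∈ core (a : G) := by
  rw [pow_mul]
  exact pow_mem D.f_five i

theorem f_pow_mod (i : ℕ) : f ^ i = f ^ (5 * (i / 5)) * f ^ (i % 5) := by
  rw [← pow_add, Nat.div_add_mod]

/-- A power of `f` moving an element of `S` only within its coset of the centre fixes the coset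
only for trivial powers. -/
theorem dvd_of_coset {m : ℕ} {t z : ↥(S : Subgroup G)} (ht : t ∉ center ↥(S : Subgroup G))
    (hz : z ∈ center ↥(S : Subgroup G)) (h : f ^ m * (t : G) * (f ^ m)⁻¹ = t * z) : 5 ∣ m := by
  by_contra hm
  have hzf : f ^ m * (z : G) * (f ^ m)⁻¹ = z := by
    rw [((show Commute f (z : G) from D.f_center z hz).pow_left m).eq, mul_inv_cancel_right]
  have hz2 : (z : G) * z = 1 := congrArg Subtype.val (D.center_sq z hz)
  have h2 : f ^ (2 * m) * (t : G) * (f ^ (2 * m))⁻¹ = t := by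
    rw [two_mul, pow_add, mul_inv_rev]
    calc f ^ m * f ^ m * t * ((f ^ m)⁻¹ * (f ^ m)⁻¹)
        = f ^ m * (f ^ m * t * (f ^ m)⁻¹) * (f ^ m)⁻¹ := by group
      _ = f ^ m * ((t : G) * z) * (f ^ m)⁻¹ := by rw [h]
      _ = (f ^ m * t * (f ^ m)⁻¹) * (f ^ m * z * (f ^ m)⁻¹) := by group
      _ = t := by rw [h, hzf, mul_assoc, hz2, mul_one]
  have hcop : (orderOf f).Coprime (2 * m) := by
    obtain ⟨n, hn⟩ := D.f_ord
    rw [hn]
    refine Nat.Coprime.pow_left _ ?_
    exact (Nat.Prime.coprime_iff_not_dvd (by norm_num)).2 fun h' =>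
      ((Nat.Prime.dvd_mul (by norm_num)).1 h').elim (by norm_num) hm
  obtain ⟨n, hn⟩ := exists_pow_eq_self_of_coprime (x := f) (n := 2 * m) hcop.symm
  refine ht (D.f_fix t ?_)
  conv_lhs => rw [← hn]
  conv_rhs => rw [← hn]
  exact ((show Commute (f ^ (2 * m)) (t : G) from mul_inv_eq_iff_eq_mul.1 h2).pow_left n).eq

/-- No element is outside of `O(C(a)) S` and acts on `S` as an element of `S` does. -/
theorem dvd_of_inner {m : ℕ} {k : G} (hk : k ∈ core (a : G)) {s t : ↥(S : Subgroup G)}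
    (ht : t ∉ center ↥(S : Subgroup G)) (h : f ^ m = k * (s : G)) : 5 ∣ m := by
  obtain ⟨u, hu⟩ := D.exists_conj_f m t
  have h1 : k * ((s * t * s⁻¹ : ↥(S : Subgroup G)) : G) * k⁻¹ = u := by
    rw [hu, h]; push_cast; group
  have h2 : s * t * s⁻¹ = u := (D.core_fix hk h1).1
  refine D.dvd_of_coset (t := t) (z := t⁻¹ * u) ht ?_ ?_
  · rw [← h2, show t⁻¹ * (s * t * s⁻¹) = t⁻¹ * t⁻¹ * ((t * s) * (t * s)) * (s⁻¹ * s⁻¹) by group]
    refine mul_mem (mul_mem ?_ (D.sq _)) ?_
    · rw [← mul_inv_rev]; exact inv_mem (D.sq t)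
    · rw [← mul_inv_rev]; exact inv_mem (D.sq s)
  · rw [← hu]; simp

theorem exists_not_center : ∃ t : ↥(S : Subgroup G), t ∉ center ↥(S : Subgroup G) := by
  by_contra h
  push Not at h
  have h4 := D.card_center
  rw [show center ↥(S : Subgroup G) = ⊤ from eq_top_iff.2 fun x _ => h x, Subgroup.card_top,
    D.card] at h4
  omega

theorem x₀_not_center : x₀ ∉ center ↥(S : Subgroup G) := fun h =>
  D.a_ne (D.x₀_sq ▸ D.center_sq _ h)

/-- The decomposition is unique. -/
theorem split_unique {k k' : G} (hk : k ∈ core (a : G)) (hk' : k' ∈ core (a : G))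
    {s s' : ↥(S : Subgroup G)} {i i' : ℕ} (h : k * (s : G) * f ^ i = k' * (s' : G) * f ^ i') :
    i % 5 = i' % 5 ∧ s = s' ∧ (i = i' → k = k') := by
  have hfS : ∀ (m : ℕ) {c : G}, c ∈ core (a : G) → f ^ m * c * (f ^ m)⁻¹ ∈ core (a : G) :=
    fun m c hc => D.core_conj (pow_mem D.f_mem m) hc
  have hsC : ∀ (u : ↥(S : Subgroup G)) {c : G}, c ∈ core (a : G) →
      (u : G) * c * (u : G)⁻¹ ∈ core (a : G) := fun u c hc => D.core_conj (D.mem_cent u) hc
  have h1 : f ^ i' * f ^ (4 * i') ∈ core (a : G) := by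
    rw [← pow_add, show i' + 4 * i' = 5 * i' by ring]
    exact D.f_pow_five i'
  set c := f ^ i' * f ^ (4 * i') with hc
  set w := ((s⁻¹ * s' : ↥(S : Subgroup G)) : G) with hw
  set c₁ := (s : G)⁻¹ * (k⁻¹ * k') * s with hc1
  have he : f ^ (i + 4 * i') = (c₁ * (w * c * w⁻¹)) * w := by
    rw [pow_add]
    calc f ^ i * f ^ (4 * i') = (k * (s : G))⁻¹ * (k * (s : G) * f ^ i) * f ^ (4 * i') := by group
      _ = (k * (s : G))⁻¹ * (k' * (s' : G) * f ^ i') * f ^ (4 * i') := by rw [h]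
      _ = _ := by rw [hc1, hw, hc]; push_cast; group
  have hmem : c₁ * (w * c * w⁻¹) ∈ core (a : G) := by
    refine mul_mem ?_ (hsC _ h1)
    simpa [hc1] using hsC s⁻¹ (mul_mem (inv_mem hk) hk')
  obtain ⟨t, ht⟩ := D.exists_not_center
  have hd := D.dvd_of_inner hmem ht he
  have hi : i % 5 = i' % 5 := by omega
  -- reduce the exponents
  set e := f ^ (5 * (i / 5))
  set e' := f ^ (5 * (i' / 5))
  have h2 : (k * ((s : G) * e * (s : G)⁻¹)) * s = (k' * ((s' : G) * e' * (s' : G)⁻¹)) * s' := by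
    rw [D.f_pow_mod i, D.f_pow_mod i', hi, ← mul_assoc, ← mul_assoc] at h
    have := mul_right_cancel h
    calc (k * ((s : G) * e * (s : G)⁻¹)) * s = k * s * e := by group
      _ = k' * s' * e' := this
      _ = _ := by group
  set A := k * ((s : G) * e * (s : G)⁻¹)
  set A' := k' * ((s' : G) * e' * (s' : G)⁻¹)
  have hA : A ∈ core (a : G) := mul_mem hk (hsC s (D.f_pow_five _))
  have hA' : A' ∈ core (a : G) := mul_mem hk' (hsC s' (D.f_pow_five _))
  have h3 : A'⁻¹ * A = (s' : G) * (s : G)⁻¹ := by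
    calc A'⁻¹ * A = A'⁻¹ * (A * s) * (s : G)⁻¹ := by group
      _ = _ := by rw [h2]; group
  have h4 : A'⁻¹ * A = 1 :=
    D.core_inf (mul_mem (inv_mem hA') hA) (h3 ▸ mul_mem s'.2 (inv_mem s.2))
  have hAA : A' = A := inv_mul_eq_one.1 h4
  refine ⟨hi, Subtype.ext ?_, fun hii => ?_⟩
  · rw [hAA] at h2
    exact mul_left_cancel h2
  · subst hii
    have hss : (s : G) = s' := by rw [hAA] at h2; exact mul_left_cancel h2
    rw [hss] at h
    exact mul_right_cancel (mul_right_cancel h)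

end Config

end Cfsg.Agent.Lib.PiHomog3258.Five
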