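import Cfsg.Agent.Lib.PiHomog3258.Five.Sections
import Cfsg.Agent.Lib.Characters.Kernel

/-!
# Characters of the principal block are constant on `a f^i O(C(a))`
-/

set_option autoImplicit false
set_option linter.style.haveILetI false
set_option linter.unusedSectionVars false

namespace Cfsg.Agent.Lib.PiHomog3258.Five.Config

open Subgroup Cfsg.Agent.Lib.U34Type98 Cfsg.Agent.Lib.Characters.Basic
open scoped ComplexConjugate

universe u

attribute [local instance] Classical.propDecidable

variable {G : Type u} [Group G] [Finite G] {S : Sylow 2 G} {a x₀ : ↥(S : Subgroup G)} {f : G}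

variable (D : Config S a x₀ f) {M : Ideal Cfsg.AlgInt} (hM : Cfsg.IsPModular 2 M)
include D

include hM in
theorem cover : Sect.Cover M (a : G) (core (a : G)) := by
  haveI : Fact (Nat.Prime 2) := ⟨Nat.prime_two⟩
  exact Sect.cover_core hM (a : G) D.psolv

include hM in
theorem apply_core {k : G} (hk : k ∈ core (a : G)) (i : ℕ) {χ : Cfsg.IrrCharacter G}
    (hχ : χ ∈ Section.blk G M) :
    (χ : G → ℂ) ((a : G) * f ^ i * k) = (χ : G → ℂ) ((a : G) * f ^ i) := by
  haveI : Fact (Nat.Prime 2) := ⟨Nat.prime_two⟩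
  letI := Fintype.ofFinite ↥(core (a : G))
  have h1 := (D.cover hM).sum_apply hM (g := (a : G) * f ^ i * k) (z := (a : G))
    (by rw [mul_assoc]; exact D.isPPart hk i) χ
  have h2 := (D.cover hM).sum_apply hM (g := (a : G) * f ^ i) (z := (a : G))
    (by simpa using D.isPPart (one_mem (core (a : G))) i) χ
  rw [if_pos ((Section.mem_blk M).1 hχ)] at h1 h2
  have h3 : ∑ k' : ↥(core (a : G)), (χ : G → ℂ) ((a : G) * f ^ i * k * k') =
      ∑ k' : ↥(core (a : G)), (χ : G → ℂ) ((a : G) * f ^ i * k') :=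
    Fintype.sum_equiv (Equiv.mulLeft (⟨k, hk⟩ : ↥(core (a : G)))) _ _ fun k' => by
      simp [mul_assoc]
  rw [h1, h2] at h3
  exact mul_left_cancel₀ (Nat.cast_ne_zero.2 Nat.card_pos.ne') h3

include hM in
/-- The values on `a f^i` depend on `i` modulo 5 only. -/
theorem apply_mod (i : ℕ) {χ : Cfsg.IrrCharacter G} (hχ : χ ∈ Section.blk G M) :
    (χ : G → ℂ) ((a : G) * f ^ i) = (χ : G → ℂ) ((a : G) * f ^ (i % 5)) := by
  rw [show f ^ i = f ^ (i % 5) * f ^ (5 * (i / 5)) by rw [← pow_add, Nat.mod_add_div],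
    ← mul_assoc]
  exact D.apply_core hM (D.f_pow_five _) _ hχ

end Cfsg.Agent.Lib.PiHomog3258.Five.Config
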