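import Mathlib.Algebra.BigOperators.Fin
import Mathlib.Algebra.Order.BigOperators.Group.Finset
import Mathlib.Algebra.BigOperators.Ring.Finset
import Mathlib.Data.Int.Interval
import Mathlib.Tactic

/-!
# The arithmetic that excludes degrees `≥ 320`

Integer vectors `h, e 0, …, e 4` with the Gram matrix of the six generalized characters cannot
satisfy the class equations when all degrees are at least 320. The certificate is a quadratic form
dominating `47 a² ∑ |e 0 - e j|` on the rows allowed by the Gram matrix.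
-/

set_option autoImplicit false

namespace Cfsg.Agent.Lib.PiHomog3258.Five.Arith

/-- The quadratic form of `188` times the inverse Gram matrix. -/
def bnd (h e₀ a b c d : ℤ) : ℤ :=
  28 * h * h + 56 * e₀ * e₀ + 48 * (a * a + b * b + c * c + d * d) - 16 * h * e₀ -
    26 * h * (a + b + c + d) - 6 * e₀ * (a + b + c + d) +
    2 * (a * b + a * c + a * d + b * c + b * d + c * d)

/-- The value at the involution. -/
def val (h e₀ a b c d : ℤ) : ℤ := 4 * (e₀ + a + b + c + d) - 5 * h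

/-- The dominating form. -/
def dom (h e₀ a b c d : ℤ) : ℤ :=
  4340 * (h * h) + 3728 * (e₀ * e₀) - 7160 * (h * e₀) +
    2831 * (a * a + b * b + c * c + d * d) - 6722 * (h * (a + b + c + d)) +
    4586 * (e₀ * (a + b + c + d)) + 5662 * (a * b + a * c + a * d + b * c + b * d + c * d)

/-- The certificate at one row. -/
def ok (h e₀ a b c d : ℤ) : Bool :=
  decide (188 < bnd h e₀ a b c d) ||
    decide (47 * (val h e₀ a b c d * val h e₀ a b c d *
      (|e₀ - a| + |e₀ - b| + |e₀ - c| + |e₀ - d|)) ≤ dom h e₀ a b c d)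

/-- The range of the entries. -/
def rge : List ℤ := [-2, -1, 0, 1, 2]

theorem ok_all : (([-3, -2, -1, 0, 1, 2, 3] : List ℤ).all fun h => rge.all fun e₀ => rge.all fun a =>
    rge.all fun b => rge.all fun c => rge.all fun d => ok h e₀ a b c d) = true := by
  decide +kernel

theorem mem_rge {x : ℤ} (h : x * x ≤ 5) : x ∈ rge := by
  have h1 : -2 ≤ x ∧ x ≤ 2 := ⟨by nlinarith, by nlinarith⟩
  simp only [rge, List.mem_cons, List.not_mem_nil, or_false]
  omega

/-- The certificate for a row occurring at least five times. -/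
def okFive (h e₀ a b c d : ℤ) : Bool :=
  decide (188 < 5 * bnd h e₀ a b c d) || decide (val h e₀ a b c d = 0) ||
    decide (e₀ = a ∧ e₀ = b ∧ e₀ = c ∧ e₀ = d)

theorem ok_five : (([-3, -2, -1, 0, 1, 2, 3] : List ℤ).all fun h => rge.all fun e₀ =>
    rge.all fun a => rge.all fun b => rge.all fun c => rge.all fun d => okFive h e₀ a b c d) =
    true := by
  decide +kernel

/-- One row occurring at least five times. -/
theorem row_five {h e₀ a b c d : ℤ} (hh : h * h ≤ 15) (he : e₀ * e₀ ≤ 5) (ha : a * a ≤ 5)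
    (hb : b * b ≤ 5) (hc : c * c ≤ 5) (hd : d * d ≤ 5) (hbnd : 5 * bnd h e₀ a b c d ≤ 188) :
    val h e₀ a b c d = 0 ∨ (e₀ = a ∧ e₀ = b ∧ e₀ = c ∧ e₀ = d) := by
  have hh' : h ∈ ([-3, -2, -1, 0, 1, 2, 3] : List ℤ) := by
    have h1 : -3 ≤ h ∧ h ≤ 3 := ⟨by nlinarith, by nlinarith⟩
    simp only [List.mem_cons, List.not_mem_nil, or_false]
    omega
  have hk := ok_five
  simp only [List.all_eq_true] at hk
  have := hk h hh' e₀ (mem_rge he) a (mem_rge ha) b (mem_rge hb) c (mem_rge hc) d (mem_rge hd)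
  simp only [okFive, Bool.or_eq_true, decide_eq_true_eq] at this
  rcases this with (h' | h') | h'
  · omega
  · exact Or.inl h'
  · exact Or.inr h'

/-- One row. -/
theorem row_le {h e₀ a b c d : ℤ} (hh : h * h ≤ 15) (he : e₀ * e₀ ≤ 5) (ha : a * a ≤ 5)
    (hb : b * b ≤ 5) (hc : c * c ≤ 5) (hd : d * d ≤ 5) (hbnd : bnd h e₀ a b c d ≤ 188) :
    47 * (val h e₀ a b c d * val h e₀ a b c d *
      (|e₀ - a| + |e₀ - b| + |e₀ - c| + |e₀ - d|)) ≤ dom h e₀ a b c d := by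
  have hh' : h ∈ ([-3, -2, -1, 0, 1, 2, 3] : List ℤ) := by
    have h1 : -3 ≤ h ∧ h ≤ 3 := ⟨by nlinarith, by nlinarith⟩
    simp only [List.mem_cons, List.not_mem_nil, or_false]
    omega
  have hk := ok_all
  simp only [List.all_eq_true] at hk
  have := hk h hh' e₀ (mem_rge he) a (mem_rge ha) b (mem_rge hb) c (mem_rge hc) d (mem_rge hd)
  simp only [ok, Bool.or_eq_true, decide_eq_true_eq] at this
  rcases this with h' | h'
  · omega
  · exact h'

variable {ι : Type*}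

/-- **The contradiction.** -/
theorem not_large (s : Finset ι) (h : ι → ℤ) (e : Fin 5 → ι → ℤ) (d : ι → ℚ)
    (hhh : ∑ χ ∈ s, h χ * h χ = 15) (hh0 : ∑ χ ∈ s, h χ * e 0 χ = 3)
    (hhe : ∀ j, j ≠ 0 → ∑ χ ∈ s, h χ * e j χ = 4)
    (hee : ∀ i j, ∑ χ ∈ s, e i χ * e j χ = if i = j then (if i = 0 then 4 else 5) else 1)
    (hd₀ : ∀ χ ∈ s, 0 < d χ)
    (hd : ∀ χ ∈ s, ∀ j, e 0 χ ≠ e j χ → (320 : ℚ) ≤ d χ ∨
      5 ≤ (s.filter fun ψ => h ψ = h χ ∧ ∀ i, e i ψ = e i χ).card)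
    (hrel : ∀ j, j ≠ 0 → ∑ χ ∈ s,
      ((e 0 χ - e j χ : ℤ) : ℚ) * ((4 * (∑ i, e i χ) - 5 * h χ : ℤ) : ℚ) ^ 2 / d χ = 1) :
    False := by
  classical
  set V : ι → ℤ := fun χ => val (h χ) (e 0 χ) (e 1 χ) (e 2 χ) (e 3 χ) (e 4 χ) with hV
  have hval : ∀ χ, 4 * (∑ i, e i χ) - 5 * h χ = V χ := fun χ => by
    simp only [hV, val, Fin.sum_univ_five]
  -- the bound on one row
  have hbnd : ∀ χ ∈ s, bnd (h χ) (e 0 χ) (e 1 χ) (e 2 χ) (e 3 χ) (e 4 χ) ≤ 188 ∧
      (5 ≤ (s.filter fun ψ => h ψ = h χ ∧ ∀ i, e i ψ = e i χ).card →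
        5 * bnd (h χ) (e 0 χ) (e 1 χ) (e 2 χ) (e 3 χ) (e 4 χ) ≤ 188) := by
    intro χ₀ hχ₀
    set Q := bnd (h χ₀) (e 0 χ₀) (e 1 χ₀) (e 2 χ₀) (e 3 χ₀) (e 4 χ₀) with hQ
    set H := h χ₀
    set E₀ := e 0 χ₀
    set A := e 1 χ₀
    set B := e 2 χ₀
    set C := e 3 χ₀
    set D := e 4 χ₀
    set f : ι → ℤ := fun χ => (28 * H - 8 * E₀ - 13 * (A + B + C + D)) * h χ +
      (-8 * H + 56 * E₀ - 3 * (A + B + C + D)) * e 0 χ +
      (-13 * H - 3 * E₀ + 48 * A + (B + C + D)) * e 1 χ +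
      (-13 * H - 3 * E₀ + 48 * B + (A + C + D)) * e 2 χ +
      (-13 * H - 3 * E₀ + 48 * C + (A + B + D)) * e 3 χ +
      (-13 * H - 3 * E₀ + 48 * D + (A + B + C)) * e 4 χ with hf
    have hfQ : f χ₀ = Q := by simp only [hf, hQ, bnd]; ring
    have hsum : ∑ χ ∈ s, f χ * f χ = 188 * Q := by
      simp only [hf, add_mul, mul_add, Finset.sum_add_distrib]
      simp only [mul_assoc, mul_left_comm (h _), mul_left_comm (e _ _), ← Finset.mul_sum]
      simp only [mul_comm (e _ _) (h _)]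
      simp [hhh, hh0, hhe, hee, hQ, bnd]
      ring
    have h1 : f χ₀ * f χ₀ ≤ ∑ χ ∈ s, f χ * f χ :=
      Finset.single_le_sum (f := fun χ => f χ * f χ) (fun _ _ => mul_self_nonneg _) hχ₀
    rw [hsum, hfQ] at h1
    refine ⟨?_, fun hcard => ?_⟩
    · by_contra hlt
      push Not at hlt
      nlinarith
    · have h2 : ∑ χ ∈ s.filter (fun ψ => h ψ = h χ₀ ∧ ∀ i, e i ψ = e i χ₀), f χ * f χ ≤
          ∑ χ ∈ s, f χ * f χ :=
        Finset.sum_le_sum_of_subset_of_nonneg (Finset.filter_subset _ _)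
          fun _ _ _ => mul_self_nonneg _
      rw [Finset.sum_congr rfl (g := fun _ => Q * Q) fun χ hχ => by
        obtain ⟨-, h', he'⟩ := Finset.mem_filter.1 hχ
        rw [← hfQ]; simp only [hf, h', he', H, E₀, A, B, C, D],
        Finset.sum_const, nsmul_eq_mul, hsum] at h2
      by_contra hlt
      push Not at hlt
      have h5 : (5 : ℤ) ≤ ((s.filter fun ψ => h ψ = h χ₀ ∧ ∀ i, e i ψ = e i χ₀).card : ℤ) := by
        exact_mod_cast hcard
      nlinarith [mul_self_nonneg Q]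
  have hle : ∀ χ ∈ s, ∀ {f : ι → ℤ} {n : ℤ}, ∑ x ∈ s, f x * f x = n → f χ * f χ ≤ n :=
    fun χ hχ {f n} hf =>
      hf ▸ Finset.single_le_sum (f := fun x => f x * f x) (fun _ _ => mul_self_nonneg _) hχ
  have hlarge : ∀ χ ∈ s, ∀ j, V χ * V χ * |e 0 χ - e j χ| ≠ 0 → (320 : ℚ) ≤ d χ := by
    intro χ hχ j hz
    have hne : e 0 χ ≠ e j χ := fun he => hz (by rw [he, sub_self, abs_zero, mul_zero])
    refine (hd χ hχ j hne).resolve_right fun hcard => ?_
    rcases row_five (hle χ hχ hhh) ((hle χ hχ (hee 0 0)).trans (by simp))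
      ((hle χ hχ (hee 1 1)).trans (by simp)) ((hle χ hχ (hee 2 2)).trans (by simp))
      ((hle χ hχ (hee 3 3)).trans (by simp)) ((hle χ hχ (hee 4 4)).trans (by simp))
      ((hbnd χ hχ).2 hcard) with h' | ⟨h1, h2, h3, h4⟩
    · exact hz (by rw [show V χ = 0 from h']; ring)
    · exact hne (by fin_cases j <;> first | rfl | assumption)
  -- the class equations
  have hlow : ∀ j, j ≠ 0 → (320 : ℤ) ≤ ∑ χ ∈ s, V χ * V χ * |e 0 χ - e j χ| := by
    intro j hj
    have h1 := hrel j hj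
    have h2 : (1 : ℚ) ≤ ∑ χ ∈ s, ((V χ * V χ * |e 0 χ - e j χ| : ℤ) : ℚ) / 320 := by
      rw [← h1]
      refine Finset.sum_le_sum fun χ hχ => ?_
      rw [hval]
      have h3 : (0 : ℚ) < d χ := hd₀ χ hχ
      calc ((e 0 χ - e j χ : ℤ) : ℚ) * ((V χ : ℤ) : ℚ) ^ 2 / d χ
          ≤ |((e 0 χ - e j χ : ℤ) : ℚ)| * ((V χ : ℤ) : ℚ) ^ 2 / d χ := by
            gcongr
            exact le_abs_self _
        _ ≤ |((e 0 χ - e j χ : ℤ) : ℚ)| * ((V χ : ℤ) : ℚ) ^ 2 / 320 := by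
            by_cases hz : V χ * V χ * |e 0 χ - e j χ| = 0
            · have hz' : |((e 0 χ - e j χ : ℤ) : ℚ)| * ((V χ : ℤ) : ℚ) ^ 2 = 0 := by
                rw [← Int.cast_abs, ← Int.cast_pow, ← Int.cast_mul, Int.cast_eq_zero]
                linear_combination hz
              rw [hz', zero_div, zero_div]
            · gcongr
              exact hlarge χ hχ j hz
        _ = _ := by push_cast; ring
    rw [← Finset.sum_div, ← Int.cast_sum, le_div_iff₀ (by norm_num)] at h2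
    exact_mod_cast (by linarith : (320 : ℚ) ≤ ((∑ χ ∈ s, V χ * V χ * |e 0 χ - e j χ| : ℤ) : ℚ))
  have hrow : ∀ χ ∈ s, 47 * (V χ * V χ * (|e 0 χ - e 1 χ| + |e 0 χ - e 2 χ| + |e 0 χ - e 3 χ| +
      |e 0 χ - e 4 χ|)) ≤ dom (h χ) (e 0 χ) (e 1 χ) (e 2 χ) (e 3 χ) (e 4 χ) := by
    intro χ hχ
    refine row_le (hle χ hχ hhh) ?_ ?_ ?_ ?_ ?_ (hbnd χ hχ).1 <;>
      · refine le_trans (hle χ hχ (hee _ _)) ?_
        simp
  have htot : ∑ χ ∈ s, dom (h χ) (e 0 χ) (e 1 χ) (e 2 χ) (e 3 χ) (e 4 χ) = 59916 := by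
    simp only [dom, mul_add, Finset.sum_add_distrib, Finset.sum_sub_distrib]
    simp [← Finset.mul_sum, hhh, hh0, hhe, hee]
  have h5 := Finset.sum_le_sum hrow
  rw [htot] at h5
  simp only [mul_add, Finset.sum_add_distrib, ← Finset.mul_sum] at h5
  linarith [hlow 1 (by decide), hlow 2 (by decide), hlow 3 (by decide), hlow 4 (by decide)]

end Cfsg.Agent.Lib.PiHomog3258.Five.Arith
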