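import Cfsg.Agent.Lib.PiHomog3258.Basic

/-!
# The last configuration for S3258

The interface between the local analysis (Sylow 2-subgroup of type `U₃(4)` with a centraliser of an
involution `C(a) = K (S ⟨f⟩)`, `f` inducing an automorphism of order 5) and the character theoretic
contradiction.
-/

set_option autoImplicit false
set_option linter.unusedSectionVars false

namespace Cfsg.Agent.Lib.PiHomog3258.Five

open Subgroup

universe u

variable {G : Type u} [Group G] [Finite G]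

/-- The centre of `S` as a subgroup of `G`. -/
def zS (S : Sylow 2 G) : Subgroup G :=
  (center ↥(S : Subgroup G)).map (S : Subgroup G).subtype

theorem mem_zS {S : Sylow 2 G} {x : G} :
    x ∈ zS S ↔ x ∈ (S : Subgroup G) ∧ ∀ s ∈ (S : Subgroup G), s * x = x * s := by
  constructor
  · rintro ⟨z, hz, rfl⟩
    exact ⟨z.2, fun s hs => congrArg Subtype.val (mem_center_iff.1 hz ⟨s, hs⟩)⟩
  · rintro ⟨hx, h⟩
    exact ⟨⟨x, hx⟩, mem_center_iff.2 fun s => Subtype.ext (h s s.2), rfl⟩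

/-- The configuration: `K` is the core of `C(a)`, `L` a normal `r`-subgroup of `C(a)` in `K`. -/
structure Data (π : Set ℕ) (S : Sylow 2 G) (a f : G) (K L : Subgroup G) (r : ℕ) : Prop where
  hyp : Hyp π G
  card : Nat.card ↥(S : Subgroup G) = 64
  card_center : Nat.card ↥(center ↥(S : Subgroup G)) = 4
  comm : _root_.commutator ↥(S : Subgroup G) = center ↥(S : Subgroup G)
  center_sq : ∀ z ∈ center ↥(S : Subgroup G), z * z = 1
  sq : ∀ x : ↥(S : Subgroup G), x * x ∈ center ↥(S : Subgroup G)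
  invol : ∀ x : ↥(S : Subgroup G), x * x = 1 → x ∈ center ↥(S : Subgroup G)
  fusion : ∀ v ∈ zS S, v ≠ 1 → ∃ n ∈ normalizer ((S : Subgroup G) : Set G), n * a * n⁻¹ = v
  a_mem : a ∈ zS S
  a_ord : orderOf a = 2
  f_cent : f ∈ centralizer ({a} : Set G)
  f_norm : f ∈ normalizer ((S : Subgroup G) : Set G)
  f_odd : ∃ n : ℕ, orderOf f = 5 ^ (n + 1)
  f_zS : ∀ v ∈ zS S, f * v = v * f
  f_fpf : ∀ s ∈ (S : Subgroup G), f * s * f⁻¹ * s⁻¹ ∈ zS S → s ∈ zS S
  K_le : K ≤ centralizer ({a} : Set G)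
  K_normal : centralizer ({a} : Set G) ≤ normalizer (K : Set G)
  K_odd : ∀ x ∈ K, Odd (orderOf x)
  f_pow : f ^ 5 ∈ K
  cover : centralizer ({a} : Set G) ≤ K ⊔ (S : Subgroup G) ⊔ zpowers f
  r_prime : r.Prime
  r_not_mem : r ∉ π
  L_le : L ≤ K
  L_pgroup : IsPGroup r ↥L
  L_ne : L ≠ ⊥
  L_normal : centralizer ({a} : Set G) ≤ normalizer (L : Set G)
  L_free : ∀ v ∈ zS S, v ≠ 1 → v ≠ a → ∀ x ∈ L, v * x = x * v → x = 1
  L_free_f : ∀ x ∈ L, f * x = x * f → x = 1

end Cfsg.Agent.Lib.PiHomog3258.Five
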