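import Cfsg.Agent.Lib.PiHomog3258.Five.Orbits
import Cfsg.Agent.Lib.PiHomog3258.Five.Chars
import Cfsg.Agent.Lib.PiHomog3258.Five.Degree
import Cfsg.Agent.Lib.PSolvable.Basic

/-!
# The last configuration for S3258 does not occur in a simple group
-/

set_option autoImplicit false
set_option linter.style.haveILetI false
set_option linter.unusedSectionVars false

namespace Cfsg.Agent.Lib.PiHomog3258.Five.Main

open Subgroup Orbits

universe u

attribute [local instance] Classical.propDecidable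

variable {G : Type u} [Group G] [Finite G] {π : Set ℕ} {S : Sylow 2 G} {a f : G}
  {K L : Subgroup G} {r : ℕ}

variable (D : Data π S a f K L r)
include D

/-- The class of a non-central element of `S` is its coset of the centre, of index 4. -/
theorem coset_class [Fintype ↥(S : Subgroup G)] {x : ↥(S : Subgroup G)}
    (hx : x ∉ center ↥(S : Subgroup G)) :
    Nat.card {t : ↥(S : Subgroup G) // t * x = x * t} = 16 ∧
      ∀ z ∈ center ↥(S : Subgroup G), IsConj (x : G) ((x * z : ↥(S : Subgroup G)) : G) := by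
  let χ : ↥(S : Subgroup G) →* ↥(center ↥(S : Subgroup G)) :=
    MonoidHom.mk' (fun t => ⟨cm x t, cm_mem D x t⟩) fun t t' => Subtype.ext (by
      show cm x (t * t') = cm x t * cm x t'
      calc cm x (t * t') = x * t * x⁻¹ * (cm x t' * t⁻¹) := by simp only [cm]; group
        _ = x * t * x⁻¹ * (t⁻¹ * cm x t') := by rw [mem_center_iff.1 (cm_mem D x t') t⁻¹]
        _ = _ := by simp only [cm]; group)
  have htop : χ.range = ⊤ := by
    refine Subgroup.eq_top_of_card_eq _ ?_
    have hdvd := card_subgroup_dvd_card χ.range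
    rw [D.card_center] at hdvd ⊢
    have hle := Nat.le_of_dvd (by norm_num) hdvd
    by_contra h4
    have h2 : Nat.card ↥χ.range ≤ 2 := by
      interval_cases h : Nat.card ↥χ.range <;> omega
    obtain ⟨z, hz⟩ : ∃ z ∈ χ.range, χ.range ≤ zpowers z := by
      by_cases hb : χ.range = ⊥
      · exact ⟨1, one_mem _, by simp [hb]⟩
      obtain ⟨w, hw, hw1⟩ := (χ.range.bot_or_exists_ne_one).resolve_left hb
      refine ⟨w, hw, (eq_of_le_of_card_ge (zpowers_le.2 hw) ?_).ge⟩
      rw [Nat.card_zpowers]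
      refine h2.trans ?_
      have := orderOf_pos w
      have : orderOf w ≠ 1 := fun h => hw1 (orderOf_eq_one_iff.1 h)
      omega
    obtain ⟨t, ht⟩ := exists_cm_not_mem D hx z.2
    obtain ⟨k, hk⟩ := mem_zpowers_iff.1 (hz.2 (⟨t, rfl⟩ : χ t ∈ χ.range))
    exact ht (mem_zpowers_iff.2 ⟨k, by rw [← coe_zpow, hk]; rfl⟩)
  refine ⟨?_, fun z hz => ?_⟩
  · have h := χ.ker.card_mul_index
    rw [index_ker, htop, Subgroup.card_top, D.card_center, D.card] at h
    rw [Nat.card_congr (Equiv.subtypeEquivRight (q := fun t => t ∈ χ.ker) fun t => ?_)]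
    · have h16 : Nat.card ↥χ.ker * 4 = 16 * 4 := h
      exact Nat.eq_of_mul_eq_mul_right (by norm_num) h16
    · rw [MonoidHom.mem_ker]
      constructor
      · intro ht
        exact Subtype.ext (by
          show x * t * x⁻¹ * t⁻¹ = 1
          rw [← ht, mul_inv_cancel_right, mul_inv_cancel])
      · intro ht
        have h1 : x * t * x⁻¹ * t⁻¹ = 1 := congrArg Subtype.val ht
        exact (mul_inv_eq_iff_eq_mul.1 (mul_inv_eq_one.1 h1)).symm
  · obtain ⟨t, ht⟩ : (⟨z, hz⟩ : ↥(center ↥(S : Subgroup G))) ∈ χ.range := htop ▸ mem_top _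
    have hzt : cm x t = z := congrArg Subtype.val ht
    refine isConj_iff.2 ⟨t, congrArg Subtype.val (?_ : t * x * t⁻¹ = x * z)⟩
    have hzi : z⁻¹ = z := inv_eq_of_mul_eq_one_right (D.center_sq z hz)
    calc t * x * t⁻¹ = (cm x t)⁻¹ * x := by simp only [cm]; group
      _ = x * z := by rw [hzt, hzi, mem_center_iff.1 hz x]

theorem isConj_rel [Fintype ↥(S : Subgroup G)] {x y : ↥(S : Subgroup G)}
    (hx : x ∉ center ↥(S : Subgroup G)) (h : Rel D x y) : IsConj (x : G) (y : G) := by
  obtain ⟨m, z, hz, rfl⟩ := h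
  have hm : phi D m x ∉ center ↥(S : Subgroup G) := fun h =>
    not_center_of_mem D hx ((mem_orb D).2 ⟨m, 1, one_mem _, (mul_one _).symm⟩) h
  exact (isConj_iff.2 ⟨f ^ m, rfl⟩ : IsConj (x : G) (phi D m x : G)).trans
    ((coset_class D hm).2 z hz)

omit [Finite G] in
/-- Moving a square to `a`. -/
theorem exists_move {x : ↥(S : Subgroup G)} (hx : x ∉ center ↥(S : Subgroup G)) :
    ∃ y : ↥(S : Subgroup G), y ∉ center ↥(S : Subgroup G) ∧ IsConj (x : G) (y : G) ∧
      (y : G) * y = a := by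
  have hne : ((x * x : ↥(S : Subgroup G)) : G) ≠ 1 := fun h => hx (D.invol x (Subtype.ext h))
  obtain ⟨n, hn, hna⟩ := D.fusion _ ⟨x * x, D.sq x, rfl⟩ hne
  have hy : n⁻¹ * (x : G) * n ∈ (S : Subgroup G) :=
    (mem_normalizer_iff''.1 hn _).1 x.2
  refine ⟨⟨_, hy⟩, fun h => ?_, isConj_iff.2 ⟨n⁻¹, by group⟩, ?_⟩
  · have h1 := congrArg Subtype.val (D.center_sq _ h)
    simp only [coe_mul, coe_one] at h1
    refine hne ?_
    rw [show ((x * x : ↥(S : Subgroup G)) : G) = n * (n⁻¹ * x * n * (n⁻¹ * x * n)) * n⁻¹ by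
      push_cast; group, h1]
    group
  · show n⁻¹ * (x : G) * n * (n⁻¹ * x * n) = a
    calc n⁻¹ * (x : G) * n * (n⁻¹ * x * n) = n⁻¹ * ((x * x : ↥(S : Subgroup G)) : G) * n := by
          push_cast; group
      _ = n⁻¹ * (n * a * n⁻¹) * n := by rw [hna]; rfl
      _ = a := by group

/-- The elements with square `a` form one orbit. -/
theorem rel_of_sq [Fintype ↥(S : Subgroup G)] {x y : ↥(S : Subgroup G)}
    (hx : x ∉ center ↥(S : Subgroup G)) (hy : y ∉ center ↥(S : Subgroup G))
    (hxa : (x : G) * x = a) (hya : (y : G) * y = a) : Rel D x y := by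
  by_contra hrel
  set Z := Finset.univ.filter fun w : ↥(S : Subgroup G) => w ∈ center ↥(S : Subgroup G)
  have hZ : Z.card = 4 := by
    rw [← D.card_center, ← Fintype.card_subtype, ← Nat.card_eq_fintype_card]
  set A : ↥(S : Subgroup G) := ⟨a, (mem_zS.1 D.a_mem).1⟩
  have hA : A ∈ Z := Finset.mem_filter.2 ⟨Finset.mem_univ _, by
    obtain ⟨z, hz, hza⟩ := D.a_mem
    exact (Subtype.ext hza : z = A) ▸ hz⟩
  have h1 : (1 : ↥(S : Subgroup G)) ∈ Z := Finset.mem_filter.2 ⟨Finset.mem_univ _, one_mem _⟩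
  obtain ⟨b, hb, c, hc, hbc⟩ :=
    Finset.one_lt_card.1 (show 1 < ((Z.erase 1).erase A).card by
      have h2 := Finset.pred_card_le_card_erase (s := Z) (a := (1 : ↥(S : Subgroup G)))
      have h3 := Finset.pred_card_le_card_erase (s := Z.erase 1) (a := A)
      omega)
  -- an orbit with given square
  have hmove : ∀ v ∈ (Z.erase 1).erase A, ∃ w, w ∉ center ↥(S : Subgroup G) ∧ w * w = v ∧
      v ≠ A := by
    intro v hv
    obtain ⟨hvA, hv1, hvZ⟩ : v ≠ A ∧ v ≠ 1 ∧ v ∈ Z := by simpa using hv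
    obtain ⟨n, hn, hna⟩ :=
      D.fusion _ ⟨v, (Finset.mem_filter.1 hvZ).2, rfl⟩ fun h => hv1 (Subtype.ext h)
    have hw : n * (x : G) * n⁻¹ ∈ (S : Subgroup G) := (mem_normalizer_iff.1 hn _).1 x.2
    have he : (⟨_, hw⟩ : ↥(S : Subgroup G)) * ⟨_, hw⟩ = v := Subtype.ext (by
      show n * (x : G) * n⁻¹ * (n * x * n⁻¹) = (v : G)
      rw [show n * (x : G) * n⁻¹ * (n * x * n⁻¹) = n * ((x : G) * x) * n⁻¹ by group, hxa]
      exact hna)
    exact ⟨_, fun h => hv1 (he.symm.trans (D.center_sq _ h)), he, hvA⟩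
  obtain ⟨wb, hwb, hwb2, hbA⟩ := hmove b hb
  obtain ⟨wc, hwc, hwc2, hcA⟩ := hmove c hc
  have hxA : x * x = A := Subtype.ext hxa
  have hyA : y * y = A := Subtype.ext hya
  have hsq : ∀ {p q : ↥(S : Subgroup G)}, p * p ≠ q * q → Disjoint (orb D p) (orb D q) :=
    fun {p q} h => Finset.disjoint_left.2 fun w h1 h2 =>
      h ((sq_of_mem D h1).symm.trans (sq_of_mem D h2))
  have hd1 : Disjoint (orb D x) (orb D y) := orb_disjoint D hrel
  have hd2 : Disjoint (orb D x ∪ orb D y) (orb D wb) := Finset.disjoint_union_left.2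
    ⟨hsq (by rw [hxA, hwb2]; exact hbA.symm), hsq (by rw [hyA, hwb2]; exact hbA.symm)⟩
  have hd3 : Disjoint (orb D x ∪ orb D y ∪ orb D wb) (orb D wc) := Finset.disjoint_union_left.2
    ⟨Finset.disjoint_union_left.2
      ⟨hsq (by rw [hxA, hwc2]; exact hcA.symm), hsq (by rw [hyA, hwc2]; exact hcA.symm)⟩,
      hsq (by rw [hwb2, hwc2]; exact hbc)⟩
  have hsub : orb D x ∪ orb D y ∪ orb D wb ∪ orb D wc ⊆ Finset.univ \ Z := by
    intro w hw
    simp only [Finset.mem_union] at hw
    refine Finset.mem_sdiff.2 ⟨Finset.mem_univ _, fun h => ?_⟩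
    have h' := (Finset.mem_filter.1 h).2
    rcases hw with ((hw | hw) | hw) | hw
    exacts [not_center_of_mem D hx hw h', not_center_of_mem D hy hw h',
      not_center_of_mem D hwb hw h', not_center_of_mem D hwc hw h']
  have h := Finset.card_le_card hsub
  rw [Finset.card_union_of_disjoint hd3, Finset.card_union_of_disjoint hd2,
    Finset.card_union_of_disjoint hd1, Finset.card_univ_diff, hZ, ← Nat.card_eq_fintype_card,
    D.card] at h
  have := card_orb D hx; have := card_orb D hy; have := card_orb D hwb; have := card_orb D hwc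
  omega

/-- All non-central elements are conjugate. -/
theorem isConj_all [Fintype ↥(S : Subgroup G)] {x y : ↥(S : Subgroup G)}
    (hx : x ∉ center ↥(S : Subgroup G)) (hy : y ∉ center ↥(S : Subgroup G)) :
    IsConj (x : G) (y : G) := by
  obtain ⟨x', hx', hxx', hxa⟩ := exists_move D hx
  obtain ⟨y', hy', hyy', hya⟩ := exists_move D hy
  exact hxx'.trans ((isConj_rel D hx' (rel_of_sq D hx' hy' hxa hya)).trans hyy'.symm)

theorem mem_centralizer_S (s : ↥(S : Subgroup G)) : (s : G) ∈ centralizer ({a} : Set G) :=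
  mem_centralizer_singleton_iff.2 ((mem_zS.1 D.a_mem).2 s s.2)

theorem le_core : K ≤ Cfsg.centralizerPPrimeCore 2 a := by
  haveI : Fact (Nat.Prime 2) := ⟨Nat.prime_two⟩
  haveI : (K.subgroupOf (centralizer ({a} : Set G))).Normal :=
    normal_subgroupOf_of_le_normalizer D.K_normal
  have hle : K.subgroupOf (centralizer ({a} : Set G)) ≤
      Cfsg.pPrimeCore 2 ↥(centralizer ({a} : Set G)) := by
    refine Cores.le_pPrimeCore_of_not_dvd fun hd => ?_
    obtain ⟨x, hx⟩ := exists_prime_orderOf_dvd_card' 2 hd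
    have h := D.K_odd _ (mem_subgroupOf.1 x.2)
    rw [Subgroup.orderOf_coe, Subgroup.orderOf_coe, hx] at h
    exact absurd h (by decide)
  intro k hk
  exact ⟨⟨k, D.K_le hk⟩, hle (mem_subgroupOf.2 hk), rfl⟩

theorem split {c : G} (hc : c ∈ centralizer ({a} : Set G)) :
    ∃ k ∈ K, ∃ (s : ↥(S : Subgroup G)) (i : Fin 5), c = k * (s : G) * f ^ (i : ℕ) := by
  have hSC : (S : Subgroup G) ≤ normalizer (K : Set G) := fun s hs =>
    D.K_normal (mem_centralizer_S D ⟨s, hs⟩)
  have hfK : f ∈ normalizer (K : Set G) := D.K_normal D.f_cent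
  have hfn : zpowers f ≤ normalizer ((K ⊔ (S : Subgroup G) : Subgroup G) : Set G) :=
    zpowers_le.2 (normalizer_inf_normalizer_le_normalizer_sup K (S : Subgroup G) (mem_inf.2 ⟨hfK, D.f_norm⟩))
  have h := D.cover hc
  rw [← SetLike.mem_coe, coe_mul_of_right_le_normalizer_left _ _ hfn] at h
  obtain ⟨ks, hks, y, hy, rfl⟩ := h
  rw [coe_mul_of_right_le_normalizer_left _ _ hSC] at hks
  obtain ⟨k, hk, s, hs, rfl⟩ := hks
  obtain ⟨m, rfl⟩ := Submonoid.mem_powers_iff _ _ |>.1
    ((isOfFinOrder_of_finite f).mem_powers_iff_mem_zpowers.2 hy)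
  have h5 : f ^ (5 * (m / 5)) ∈ K := by rw [pow_mul]; exact pow_mem D.f_pow _
  refine ⟨k * (s * f ^ (5 * (m / 5)) * s⁻¹),
    mul_mem hk ((mem_normalizer_iff.1 (hSC hs) _).1 h5), ⟨s, hs⟩,
    ⟨m % 5, Nat.mod_lt _ (by norm_num)⟩, ?_⟩
  show k * s * f ^ m = k * (s * f ^ (5 * (m / 5)) * s⁻¹) * s * f ^ (m % 5)
  conv_lhs => rw [← Nat.div_add_mod m 5, pow_add]
  group

theorem psolv : Cfsg.IsPSolvable 2 ↥(centralizer ({a} : Set G)) := by
  haveI : Fact (Nat.Prime 2) := ⟨Nat.prime_two⟩
  set C := centralizer ({a} : Set G)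
  haveI hK : (K.subgroupOf C).Normal := normal_subgroupOf_of_le_normalizer D.K_normal
  have hKodd : (Nat.card ↥(K.subgroupOf C)).Coprime 2 := by
    refine (Nat.Prime.coprime_iff_not_dvd Nat.prime_two).2 (fun hd => ?_) |>.symm
    obtain ⟨x, hx⟩ := exists_prime_orderOf_dvd_card' 2 hd
    have h := D.K_odd _ (mem_subgroupOf.1 x.2)
    rw [Subgroup.orderOf_coe, Subgroup.orderOf_coe, hx] at h
    exact absurd h (by decide)
  refine PSolvable.isPSolvable_of_extension (K.subgroupOf C)
    (PSolvable.isPSolvable_of_coprime hKodd) ?_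
  set q := QuotientGroup.mk' (K.subgroupOf C)
  set P := ((S : Subgroup G).subgroupOf C).map q
  have hgen : ∀ x : ↥C ⧸ K.subgroupOf C, ∃ p ∈ P, ∃ i : ℕ, x = p * q ⟨f, D.f_cent⟩ ^ i := by
    intro x
    obtain ⟨⟨c, hc⟩, rfl⟩ := QuotientGroup.mk'_surjective _ x
    obtain ⟨k, hk, s, i, rfl⟩ := split D hc
    refine ⟨q ⟨s, mem_centralizer_S D s⟩, mem_map_of_mem q (mem_subgroupOf.2 s.2), i, ?_⟩
    rw [← map_pow, ← map_mul]
    show q _ = q _
    refine QuotientGroup.eq.2 (mem_subgroupOf.2 ?_)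
    show (k * (s : G) * f ^ (i : ℕ))⁻¹ * ((s : G) * f ^ (i : ℕ)) ∈ K
    have := (mem_normalizer_iff''.1
      (D.K_normal (mul_mem (mem_centralizer_S D s) (pow_mem D.f_cent (i : ℕ)))) k⁻¹).1 (inv_mem hk)
    simpa [mul_assoc] using this
  haveI hP : P.Normal := ⟨fun p hp x => by
    obtain ⟨w, hw, i, rfl⟩ := hgen x
    obtain ⟨⟨s, hsC⟩, hs, rfl⟩ := hp
    have hfs : q (⟨f, D.f_cent⟩ ^ i * ⟨s, hsC⟩ * (⟨f, D.f_cent⟩ ^ i)⁻¹) ∈ P :=
      mem_map_of_mem q (mem_subgroupOf.2 (by
        simpa using (mem_normalizer_iff.1 (pow_mem D.f_norm i) _).1 (mem_subgroupOf.1 hs)))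
    simp only [map_mul, map_inv, map_pow] at hfs
    have := mul_mem (mul_mem hw hfs) (inv_mem hw)
    simpa [mul_assoc] using this⟩
  refine PSolvable.isPSolvable_of_extension P (PSolvable.isPSolvable_of_isPGroup ?_) ?_
  · exact ((S.2.comap_of_injective C.subtype C.subtype_injective).map q)
  · haveI : Group.IsSolvable ((↥C ⧸ K.subgroupOf C) ⧸ P) := Group.isSolvable_of_comm fun x y => by
      obtain ⟨x, rfl⟩ := QuotientGroup.mk'_surjective P x
      obtain ⟨y, rfl⟩ := QuotientGroup.mk'_surjective P y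
      obtain ⟨p, hp, i, rfl⟩ := hgen x
      obtain ⟨p', hp', j, rfl⟩ := hgen y
      have e : QuotientGroup.mk' P p = 1 := (QuotientGroup.eq_one_iff p).2 hp
      have e' : QuotientGroup.mk' P p' = 1 := (QuotientGroup.eq_one_iff p').2 hp'
      rw [map_mul, map_mul, e, e', one_mul, one_mul, ← map_mul, ← map_mul, ← pow_add, ← pow_add,
        add_comm]
    exact PSolvable.isPSolvable_of_isSolvable

/-- The character-theoretic hypotheses hold. -/
theorem exists_config : ∃ a' x₀ : ↥(S : Subgroup G),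
    (a' : G) = a ∧ Config S a' x₀ f ∧ Acts S a' f L := by
  letI := Fintype.ofFinite ↥(S : Subgroup G)
  set A : ↥(S : Subgroup G) := ⟨a, (mem_zS.1 D.a_mem).1⟩
  have hA : A ∈ center ↥(S : Subgroup G) := by
    obtain ⟨z, hz, hza⟩ := D.a_mem
    exact (Subtype.ext hza : z = A) ▸ hz
  have hzS : ∀ {z : ↥(S : Subgroup G)}, z ∈ center ↥(S : Subgroup G) → (z : G) ∈ zS S :=
    fun {z} hz => ⟨z, hz, rfl⟩
  obtain ⟨x, hx⟩ : ∃ x : ↥(S : Subgroup G), x ∉ center ↥(S : Subgroup G) := by
    by_contra h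
    push Not at h
    have h4 := D.card_center
    rw [show center ↥(S : Subgroup G) = ⊤ from eq_top_iff.2 fun x _ => h x, Subgroup.card_top,
      D.card] at h4
    omega
  obtain ⟨x₀, hx₀, -, hx₀a⟩ := exists_move D hx
  have hA1 : A ≠ 1 := fun h => by
    have h2 := D.a_ord
    rw [show a = 1 from congrArg Subtype.val h, orderOf_one] at h2
    omega
  have hconj : ∀ v : ↥(S : Subgroup G), v ∈ center ↥(S : Subgroup G) → v ≠ 1 →
      IsConj a (v : G) := fun v hv hv1 => by
    obtain ⟨n, -, hn⟩ := D.fusion _ (hzS hv) fun h => hv1 (Subtype.ext h)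
    exact isConj_iff.2 ⟨n, hn⟩
  refine ⟨A, x₀, rfl, ?_, ?_⟩
  · exact
      { card := D.card
        card_center := D.card_center
        sq := D.sq
        invol := D.invol
        center_sq := D.center_sq
        card_cent := fun x hx => (coset_class D hx).1
        a_mem := hA
        a_ne := hA1
        x₀_sq := Subtype.ext hx₀a
        conj := fun x hx => isConj_all D hx₀ hx
        conj_center := hconj
        f_ord := D.f_odd
        f_five := le_core D D.f_pow
        f_norm := D.f_norm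
        f_center := fun z hz => D.f_zS z (hzS hz)
        f_fix := fun s hs => by
          obtain ⟨z, hz, hzs⟩ := D.f_fpf s s.2
            (by rw [hs, mul_inv_cancel_right, mul_inv_cancel]; exact one_mem _)
          exact (Subtype.ext hzs : z = s) ▸ hz
        split := fun c hc => by
          obtain ⟨k, hk, s, i, h⟩ := split D hc
          exact ⟨k, le_core D hk, s, i, h⟩
        psolv := psolv D }
  · have hinv : ∀ z ∈ center ↥(S : Subgroup G), z ≠ 1 → z ≠ A →
        ∀ l ∈ L, (z : G) * l * (z : G)⁻¹ = l⁻¹ := by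
      intro z hz hz1 hzA l hl
      have hzn : ∀ m ∈ L, (z : G) * m * (z : G)⁻¹ ∈ L := fun m hm =>
        (mem_normalizer_iff.1 (D.L_normal (mem_centralizer_S D z)) m).1 hm
      have hzz : (z : G) * z = 1 := congrArg Subtype.val (D.center_sq z hz)
      let g : ↥L → ↥L := fun m => ⟨(m : G)⁻¹ * ((z : G) * m * (z : G)⁻¹),
        mul_mem (inv_mem m.2) (hzn m m.2)⟩
      have hg : Function.Injective g := fun m m' h => by
        have e : (m : G)⁻¹ * ((z : G) * m * (z : G)⁻¹) =
            (m' : G)⁻¹ * ((z : G) * m' * (z : G)⁻¹) := congrArg Subtype.val h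
        refine Subtype.ext (mul_inv_eq_one.1 (D.L_free z (hzS hz) (fun h => hz1 (Subtype.ext h))
          (fun h => hzA (Subtype.ext h)) _ (mul_mem m.2 (inv_mem m'.2))
          (mul_inv_eq_iff_eq_mul.1 ?_)))
        calc (z : G) * ((m : G) * (m' : G)⁻¹) * (z : G)⁻¹
            = (m : G) * ((m : G)⁻¹ * ((z : G) * m * (z : G)⁻¹)) *
              ((z : G) * m' * (z : G)⁻¹)⁻¹ := by group
          _ = _ := by rw [e]; group
      obtain ⟨m, hm⟩ := Finite.injective_iff_surjective.1 hg ⟨l, hl⟩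
      rw [← show (m : G)⁻¹ * ((z : G) * m * (z : G)⁻¹) = l from congrArg Subtype.val hm]
      calc (z : G) * ((m : G)⁻¹ * ((z : G) * m * (z : G)⁻¹)) * (z : G)⁻¹
          = ((z : G) * m * (z : G)⁻¹)⁻¹ * ((z : G) * z * m * ((z : G) * z)⁻¹) := by group
        _ = _ := by rw [hzz]; group
    exact
      { le_core := D.L_le.trans (le_core D)
        ne_bot := D.L_ne
        comm := fun l hl m hm => by
          obtain ⟨b, hb, hb1, hbA⟩ : ∃ b ∈ center ↥(S : Subgroup G), b ≠ 1 ∧ b ≠ A := by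
            by_contra h
            push Not at h
            have h2 : (Finset.univ.filter fun w : ↥(S : Subgroup G) =>
                w ∈ center ↥(S : Subgroup G)).card ≤ ({1, A} : Finset ↥(S : Subgroup G)).card :=
              Finset.card_le_card fun w hw => by
                rcases eq_or_ne w 1 with rfl | h1
                · simp
                · simp [h w (Finset.mem_filter.1 hw).2 h1]
            rw [← Fintype.card_subtype, ← Nat.card_eq_fintype_card] at h2
            have := h2.trans Finset.card_le_two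
            have h4 : Nat.card {w // w ∈ center ↥(S : Subgroup G)} = 4 := D.card_center
            omega
          have h := hinv b hb hb1 hbA (l * m) (mul_mem hl hm)
          rw [show (b : G) * (l * m) * (b : G)⁻¹ =
            (b : G) * l * (b : G)⁻¹ * ((b : G) * m * (b : G)⁻¹) by group,
            hinv b hb hb1 hbA l hl, hinv b hb hb1 hbA m hm, ← mul_inv_rev, inv_inj] at h
          exact h.symm
        conj_mem := fun s hs l hl =>
          (mem_normalizer_iff.1 (D.L_normal (mem_centralizer_S D ⟨s, hs⟩)) l).1 hl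
        conj_f := fun l hl => (mem_normalizer_iff.1 (D.L_normal D.f_cent) l).1 hl
        inverted := hinv
        fix := D.L_free_f }

/-- **The configuration does not occur in a simple group.** -/
theorem not_data [IsSimpleGroup G] : False := by
  obtain ⟨a', x₀, -, C, A⟩ := exists_config D
  obtain ⟨M, hM⟩ := Blocks.exists_isPModular 2 Nat.prime_two
  refine C.false_of_large hM fun χ hχ i _ _ n hn => Or.inl ?_
  exact Degree.le_degree C A hM (Finset.mem_of_mem_erase hχ) (Finset.ne_of_mem_erase hχ) hn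

end Cfsg.Agent.Lib.PiHomog3258.Five.Main
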