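import Cfsg.Agent.Lib.PiHomog3258.Five.Data

/-!
# The action of `f` on `S / Z(S)` in the last configuration

The centre is the commutator subgroup and `f` has order 5 on `S / Z(S)` without fixed points, so the
class of a non-central element is its coset, and the elements with square `a` form one orbit.
-/

set_option autoImplicit false
set_option linter.style.haveILetI false
set_option linter.unusedSectionVars false

namespace Cfsg.Agent.Lib.PiHomog3258.Five.Orbits

open Subgroup

universe u

attribute [local instance] Classical.propDecidable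

variable {G : Type u} [Group G] [Finite G] {π : Set ℕ} {S : Sylow 2 G} {a f : G}
  {K L : Subgroup G} {r : ℕ}

/-- Conjugation by a power of `f` on `S`. -/
def phi (D : Data π S a f K L r) (m : ℕ) (s : ↥(S : Subgroup G)) : ↥(S : Subgroup G) :=
  ⟨f ^ m * s * (f ^ m)⁻¹, (mem_normalizer_iff.1 (pow_mem D.f_norm m) _).1 s.2⟩

variable (D : Data π S a f K L r)
include D

theorem center_fix {z : ↥(S : Subgroup G)} (hz : z ∈ center ↥(S : Subgroup G)) (m : ℕ) :
    phi D m z = z := Subtype.ext (mul_inv_eq_iff_eq_mul.2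
  ((show Commute f (z : G) from D.f_zS z ⟨z, hz, rfl⟩).pow_left m).eq)

theorem phi_mul (m : ℕ) (s t : ↥(S : Subgroup G)) : phi D m (s * t) = phi D m s * phi D m t :=
  Subtype.ext (by simp [phi, mul_assoc])

theorem phi_phi (m k : ℕ) (s : ↥(S : Subgroup G)) : phi D m (phi D k s) = phi D (m + k) s :=
  Subtype.ext (by simp [phi, pow_add, mul_assoc])

theorem phi_inverse (m : ℕ) : ∃ k : ℕ, (m + k) % 5 = 0 ∧ ∀ s : ↥(S : Subgroup G),
    phi D k (phi D m s) = s ∧ phi D m (phi D k s) = s := by
  obtain ⟨n, hn⟩ := D.f_odd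
  have h5 : 5 ∣ orderOf f := hn ▸ dvd_pow_self 5 (Nat.succ_ne_zero n)
  refine ⟨(orderOf f - 1) * m, ?_, fun s => ?_⟩
  · obtain ⟨q, hq⟩ := h5
    have := orderOf_pos f
    rw [show m + (orderOf f - 1) * m = orderOf f * m by
      obtain ⟨N, hN⟩ := Nat.exists_eq_succ_of_ne_zero this.ne'
      rw [hN, Nat.succ_sub_one, Nat.succ_mul, add_comm], hq, mul_assoc, Nat.mul_mod_right]
  · have hone : f ^ ((orderOf f - 1) * m + m) = 1 := by
      rw [show (orderOf f - 1) * m + m = orderOf f * m by
        obtain ⟨N, hN⟩ := Nat.exists_eq_succ_of_ne_zero (orderOf_pos f).ne'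
        rw [hN, Nat.succ_sub_one, Nat.succ_mul], pow_mul, pow_orderOf_eq_one, one_pow]
    constructor <;> rw [phi_phi] <;> refine Subtype.ext ?_
    · simp [phi, hone]
    · rw [add_comm]; simp [phi, hone]

theorem eq_center_of_fix {m : ℕ} (hm : ¬ 5 ∣ m) {y : ↥(S : Subgroup G)}
    (h : y⁻¹ * phi D m y ∈ center ↥(S : Subgroup G)) : y ∈ center ↥(S : Subgroup G) := by
  obtain ⟨n, hn⟩ := D.f_odd
  have hcop : m.Coprime (orderOf f) := by
    rw [hn]
    exact (((Nat.Prime.coprime_iff_not_dvd (by norm_num)).2 hm).pow_left _).symm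
  obtain ⟨l, hl⟩ := exists_pow_eq_self_of_coprime hcop
  have hall : ∀ j : ℕ, y⁻¹ * phi D (m * j) y ∈ center ↥(S : Subgroup G) := by
    intro j
    induction j with
    | zero => simpa [phi] using one_mem (center ↥(S : Subgroup G))
    | succ j ih =>
      rw [show m * (j + 1) = m + m * j by ring, ← phi_phi]
      have e : phi D m (phi D (m * j) y) = phi D m y * (y⁻¹ * phi D (m * j) y) := by
        conv_lhs => rw [← mul_inv_cancel_left y (phi D (m * j) y), phi_mul, center_fix D ih]
      rw [e, ← mul_assoc]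
      exact mul_mem h ih
  have hj := hall l
  have hy : f * (y : G) * f⁻¹ * (y : G)⁻¹ ∈ zS S := by
    refine ⟨y * (y⁻¹ * phi D (m * l) y) * y⁻¹, ?_, ?_⟩
    · rw [mem_center_iff.1 hj y, mul_inv_cancel_right]
      exact hj
    · push_cast
      show (y : G) * ((y : G)⁻¹ * (f ^ (m * l) * y * (f ^ (m * l))⁻¹)) * (y : G)⁻¹ = _
      rw [pow_mul, hl]
      group
  obtain ⟨z, hz, hzy⟩ := D.f_fpf y y.2 hy
  exact (Subtype.ext hzy : z = y) ▸ hz

/-- The elements in the cosets of the `f`-orbit of `y`. -/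
def Rel (y y' : ↥(S : Subgroup G)) : Prop :=
  ∃ m : ℕ, ∃ z ∈ center ↥(S : Subgroup G), y' = phi D m y * z

theorem rel_symm {y y' : ↥(S : Subgroup G)} (h : Rel D y y') : Rel D y' y := by
  obtain ⟨m, z, hz, rfl⟩ := h
  obtain ⟨k, -, hk⟩ := phi_inverse D m
  refine ⟨k, z⁻¹, inv_mem hz, ?_⟩
  rw [phi_mul, (hk y).1, center_fix D hz, mul_inv_cancel_right]

theorem rel_trans {y y' y'' : ↥(S : Subgroup G)} (h : Rel D y y') (h' : Rel D y' y'') :
    Rel D y y'' := by
  obtain ⟨m, z, hz, rfl⟩ := h
  obtain ⟨k, z', hz', rfl⟩ := h'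
  exact ⟨k + m, z * z', mul_mem hz hz', by rw [phi_mul, phi_phi, center_fix D hz, mul_assoc]⟩

variable [Fintype ↥(S : Subgroup G)]

/-- The orbit. -/
noncomputable def orb (y : ↥(S : Subgroup G)) : Finset ↥(S : Subgroup G) :=
  Finset.univ.filter fun y' => Rel D y y'

theorem mem_orb {y y' : ↥(S : Subgroup G)} : y' ∈ orb D y ↔ Rel D y y' := by simp [orb]

theorem orb_disjoint {y y' : ↥(S : Subgroup G)} (h : ¬ Rel D y y') :
    Disjoint (orb D y) (orb D y') :=
  Finset.disjoint_left.2 fun _ h1 h2 =>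
    h (rel_trans D ((mem_orb D).1 h1) (rel_symm D ((mem_orb D).1 h2)))

theorem not_center_of_mem {y w : ↥(S : Subgroup G)} (hy : y ∉ center ↥(S : Subgroup G))
    (hw : w ∈ orb D y) : w ∉ center ↥(S : Subgroup G) := by
  obtain ⟨m, z, hz, rfl⟩ := (mem_orb D).1 hw
  intro h
  refine hy ?_
  have h1 : phi D m y ∈ center ↥(S : Subgroup G) := by simpa using mul_mem h (inv_mem hz)
  obtain ⟨k, -, hk⟩ := phi_inverse D m
  rw [← (hk y).1, center_fix D h1]
  exact h1

theorem sq_of_mem {y w : ↥(S : Subgroup G)} (hw : w ∈ orb D y) : w * w = y * y := by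
  obtain ⟨m, z, hz, rfl⟩ := (mem_orb D).1 hw
  rw [show phi D m y * z * (phi D m y * z) = phi D m y * (z * phi D m y) * z by group,
    ← mem_center_iff.1 hz (phi D m y),
    show phi D m y * (phi D m y * z) * z = phi D m y * phi D m y * (z * z) by group,
    D.center_sq z hz, mul_one, ← phi_mul, center_fix D (D.sq y)]

theorem card_orb {y : ↥(S : Subgroup G)} (hy : y ∉ center ↥(S : Subgroup G)) :
    20 ≤ (orb D y).card := by
  let Z := Finset.univ.filter fun z : ↥(S : Subgroup G) => z ∈ center ↥(S : Subgroup G)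
  have hZ : Z.card = 4 := by
    rw [← D.card_center, ← Fintype.card_subtype, ← Nat.card_eq_fintype_card]
  refine le_of_eq_of_le (show 20 = ((Finset.univ : Finset (Fin 5)) ×ˢ Z).card by
    simp [hZ, Finset.card_product]) ?_
  refine Finset.card_le_card_of_injOn (fun p => phi D p.1 y * p.2) (fun p hp => Finset.mem_coe.2
    ((mem_orb D).2 ⟨_, p.2, (Finset.mem_filter.1 (Finset.mem_product.1 hp).2).2, rfl⟩)) ?_
  rintro ⟨i, z⟩ hp ⟨i', z'⟩ hp' (h : phi D i y * z = phi D i' y * z')
  have hz := (Finset.mem_filter.1 (Finset.mem_product.1 hp).2).2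
  have hz' := (Finset.mem_filter.1 (Finset.mem_product.1 hp').2).2
  have hi : i = i' := by
    obtain ⟨k, hk5, hk⟩ := phi_inverse D (i : ℕ)
    have h2 := congrArg (phi D k) h
    rw [phi_mul, phi_mul, (hk y).1, phi_phi, center_fix D hz, center_fix D hz'] at h2
    by_contra hne
    refine hy (eq_center_of_fix D (m := k + i') ?_ ?_)
    · have := i.2; have := i'.2
      have hne' : (i : ℕ) ≠ i' := fun h => hne (Fin.ext h)
      omega
    · rw [eq_mul_inv_of_mul_eq h2.symm]
      simpa [mul_assoc] using mul_mem hz (inv_mem hz')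
  subst hi
  exact Prod.ext rfl (mul_left_cancel h)

/-- The commutator map. -/
def cm (x t : ↥(S : Subgroup G)) : ↥(S : Subgroup G) := x * t * x⁻¹ * t⁻¹

theorem cm_mem (x t : ↥(S : Subgroup G)) : cm x t ∈ center ↥(S : Subgroup G) := by
  rw [← D.comm, commutator_def]
  exact commutator_mem_commutator (mem_top x) (mem_top t)

theorem cm_mul_left (x y t : ↥(S : Subgroup G)) : cm (x * y) t = cm y t * cm x t := by
  have h : cm y t * x = x * cm y t := (mem_center_iff.1 (cm_mem D y t) x).symm
  calc cm (x * y) t = x * cm y t * t * x⁻¹ * t⁻¹ := by simp only [cm]; group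
    _ = cm y t * x * t * x⁻¹ * t⁻¹ := by rw [h]
    _ = _ := by simp only [cm]; group

/-- The action of `f` has period 5 on `S`. -/
theorem phi_mod (m : ℕ) {y : ↥(S : Subgroup G)} : phi D (m % 5) y = phi D m y := by
  have hK : f ^ (5 * (m / 5)) ∈ K := by rw [pow_mul]; exact pow_mem D.f_pow _
  have hfix : ∀ s : ↥(S : Subgroup G), phi D (5 * (m / 5)) s = s := fun s => by
    haveI : Fact (Nat.Prime 2) := ⟨Nat.prime_two⟩
    refine Subtype.ext ?_
    set k := f ^ (5 * (m / 5))
    have hs : (s : G) ∈ centralizer ({a} : Set G) := mem_centralizer_singleton_iff.2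
      ((mem_zS.1 D.a_mem).2 s s.2)
    have h1 : k * (s : G) * k⁻¹ * (s : G)⁻¹ ∈ K := by
      have := mul_mem hK ((mem_normalizer_iff.1 (D.K_normal hs) k⁻¹).1 (inv_mem hK))
      simpa [mul_assoc] using this
    have h2 : k * (s : G) * k⁻¹ * (s : G)⁻¹ ∈ (S : Subgroup G) :=
      mul_mem (phi D (5 * (m / 5)) s).2 (inv_mem s.2)
    obtain ⟨e, he⟩ := IsPGroup.iff_orderOf.1 S.2 ⟨_, h2⟩
    rw [Subgroup.orderOf_mk] at he
    have h3 := D.K_odd _ h1
    rw [he] at h3
    rcases e with - | e
    · exact mul_inv_eq_one.1 (orderOf_eq_one_iff.1 (he.trans (pow_zero 2)))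
    · rw [Nat.odd_iff, pow_succ] at h3; omega
  rw [show phi D m y = phi D (m % 5 + 5 * (m / 5)) y by rw [Nat.mod_add_div], ← phi_phi, hfix]

/-- The commutators of a non-central element lie in no cyclic subgroup of the centre. -/
theorem exists_cm_not_mem {x : ↥(S : Subgroup G)} (hx : x ∉ center ↥(S : Subgroup G))
    {z : ↥(S : Subgroup G)} (hz : z ∈ center ↥(S : Subgroup G)) :
    ∃ t, cm x t ∉ zpowers z := by
  by_contra hall
  push Not at hall
  let U : Subgroup ↥(S : Subgroup G) :=
    { carrier := {y | ∀ t, cm y t ∈ zpowers z}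
      one_mem' := fun t => by simp [cm, one_mem]
      mul_mem' := fun {y y'} hy hy' t => by rw [cm_mul_left D]; exact mul_mem (hy' t) (hy t)
      inv_mem' := fun {y} hy t => by
        have h := cm_mul_left D y y⁻¹ t
        rw [mul_inv_cancel, show cm 1 t = 1 by simp [cm]] at h
        rw [eq_inv_of_mul_eq_one_left h.symm]
        exact inv_mem (hy t) }
  have horb : ∀ y ∈ U, ∀ w ∈ orb D y, w ∈ U := by
    intro y hy w hw t
    obtain ⟨m, c, hc, rfl⟩ := (mem_orb D).1 hw
    have hcm : cm c t = 1 := by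
      rw [cm, ← mem_center_iff.1 hc t, mul_inv_cancel_right, mul_inv_cancel]
    rw [cm_mul_left D, hcm, one_mul]
    obtain ⟨k, -, hk⟩ := phi_inverse D m
    have e : cm (phi D m y) t = phi D m (cm y (phi D k t)) :=
      (Subtype.ext (by
        conv_lhs => rw [← (hk t).2]
        simp [cm, phi, mul_assoc]))
    rw [e, center_fix D (cm_mem D _ _)]
    exact hy _
  have hcen : ∀ c ∈ center ↥(S : Subgroup G), c ∈ U := fun c hc t => by
    rw [cm, ← mem_center_iff.1 hc t, mul_inv_cancel_right, mul_inv_cancel]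
    exact one_mem _
  set Uf := Finset.univ.filter fun y : ↥(S : Subgroup G) => y ∈ U
  set Z := Finset.univ.filter fun y : ↥(S : Subgroup G) => y ∈ center ↥(S : Subgroup G)
  have hUcard : Uf.card = Nat.card ↥U := by
    rw [← Fintype.card_subtype, ← Nat.card_eq_fintype_card]
  have hZ : Z.card = 4 := by
    rw [← D.card_center, ← Fintype.card_subtype, ← Nat.card_eq_fintype_card]
  have hsub : ∀ y ∈ U, orb D y ⊆ Uf := fun y hy w hw =>
    Finset.mem_filter.2 ⟨Finset.mem_univ _, horb y hy w hw⟩
  have hZsub : Z ⊆ Uf := fun w hw =>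
    Finset.mem_filter.2 ⟨Finset.mem_univ _, hcen w (Finset.mem_filter.1 hw).2⟩
  have hdisj : ∀ y, y ∉ center ↥(S : Subgroup G) → Disjoint Z (orb D y) := fun y hy =>
    Finset.disjoint_left.2 fun w h1 h2 => not_center_of_mem D hy h2 (Finset.mem_filter.1 h1).2
  have htop : U = ⊤ := by
    by_contra hne
    have h24 : 24 ≤ Nat.card ↥U := by
      rw [← hUcard]
      refine le_trans ?_ (Finset.card_le_card (Finset.union_subset hZsub (hsub x hall)))
      rw [Finset.card_union_of_disjoint (hdisj x hx), hZ]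
      have := card_orb D hx
      omega
    have h32 : Nat.card ↥U = 32 := by
      have hlt : Nat.card ↥U < 64 := by
        rcases (Nat.le_of_dvd (by norm_num) (D.card ▸ card_subgroup_dvd_card U)).lt_or_eq with h | h
        · exact h
        · exact absurd (eq_top_of_card_eq U (h.trans D.card.symm)) hne
      have hdvd : Nat.card ↥U ∣ 2 ^ 6 := by
        have := card_subgroup_dvd_card U
        rwa [D.card] at this
      obtain ⟨i, hi, he⟩ := (Nat.dvd_prime_pow Nat.prime_two).1 hdvd
      interval_cases i <;> omega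
    obtain ⟨y, hy, hyn⟩ : ∃ y ∈ Uf, y ∉ Z ∪ orb D x := by
      by_contra h
      push Not at h
      have h1 := Finset.card_le_card (h : Uf ⊆ Z ∪ orb D x)
      rw [hUcard, h32, Finset.card_union_of_disjoint (hdisj x hx), hZ] at h1
      have h2 := Finset.card_le_card (Finset.union_subset hZsub (hsub x hall))
      rw [hUcard, h32, Finset.card_union_of_disjoint (hdisj x hx), hZ] at h2
      -- the orbit has at most 20 elements
      have h3 : (orb D x).card ≤ 20 := by
        refine le_trans (Finset.card_le_card (t := ((Finset.univ : Finset (Fin 5)) ×ˢ Z).image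
          fun p => phi D p.1 x * p.2) ?_) (Finset.card_image_le.trans (by
            simp [hZ, Finset.card_product]))
        intro w hw
        obtain ⟨m, c, hc, rfl⟩ := (mem_orb D).1 hw
        exact Finset.mem_image.2 ⟨(⟨m % 5, Nat.mod_lt _ (by norm_num)⟩, c),
          Finset.mem_product.2 ⟨Finset.mem_univ _, Finset.mem_filter.2 ⟨Finset.mem_univ _, hc⟩⟩,
          by rw [phi_mod D m]⟩
      omega
    rw [Finset.mem_union, not_or] at hyn
    have hyc : y ∉ center ↥(S : Subgroup G) := fun h =>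
      hyn.1 (Finset.mem_filter.2 ⟨Finset.mem_univ _, h⟩)
    have hyU : y ∈ U := (Finset.mem_filter.1 hy).2
    have h := Finset.card_le_card
      (Finset.union_subset (Finset.union_subset hZsub (hsub x hall)) (hsub y hyU))
    rw [Finset.card_union_of_disjoint (Finset.disjoint_union_left.2 ⟨hdisj y hyc,
        orb_disjoint D fun h => hyn.2 ((mem_orb D).2 h)⟩),
      Finset.card_union_of_disjoint (hdisj x hx), hZ, hUcard, h32] at h
    have := card_orb D hx
    have := card_orb D hyc
    omega
  have hle : _root_.commutator ↥(S : Subgroup G) ≤ zpowers z := by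
    rw [_root_.commutator_def, commutator_le]
    exact fun y _ t _ => (htop ▸ mem_top y : y ∈ U) t
  rw [D.comm] at hle
  have h4 := card_dvd_of_le hle
  rw [D.card_center, Nat.card_zpowers] at h4
  have h2 : orderOf z ∣ 2 := orderOf_dvd_of_pow_eq_one (by rw [pow_two]; exact D.center_sq z hz)
  exact absurd (h4.trans h2) (by norm_num)

end Cfsg.Agent.Lib.PiHomog3258.Five.Orbits
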