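import Cfsg.Agent.Lib.U34Type98.Section
import Cfsg.Agent.Lib.Blocks.Orthogonality
import Cfsg.Agent.Lib.Chars82.ConstrainedBlock

/-!
# Sections whose centraliser has all of `trivialOn K` as its principal block
-/

set_option autoImplicit false
set_option linter.style.haveILetI false
set_option linter.unusedSectionVars false

namespace Cfsg.Agent.Lib.PiHomog3258.Five.Sect

open Subgroup Cfsg.Agent.Lib.Characters.Basic Cfsg.Agent.Lib.BrauerMap
open scoped ComplexConjugate

universe u

attribute [local instance] Classical.propDecidable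

variable {G : Type u} [Group G] [Finite G] {p : ℕ} [Fact p.Prime] {M : Ideal Cfsg.AlgInt}

/-- The principal block of `C(z)` consists of the characters trivial on the normal subgroup `K`. -/
def Cover (M : Ideal Cfsg.AlgInt) (z : G) (K : Subgroup G) : Prop :=
  (K.subgroupOf (centralizer ({z} : Set G))).Normal ∧ K ≤ centralizer ({z} : Set G) ∧
    Cfsg.principalBlock M ↥(centralizer ({z} : Set G)) =
      {θ : Cfsg.IrrCharacter ↥(centralizer ({z} : Set G)) | ∀ n ∈ K.subgroupOf (centralizer ({z} : Set G)),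
        (θ : ↥(centralizer ({z} : Set G)) → ℂ) n = (θ : ↥(centralizer ({z} : Set G)) → ℂ) 1}

theorem Cover.blockCoeff {z : G} {K : Subgroup G} (hc : Cover M z K)
    (w : ↥(centralizer ({z} : Set G))) :
    Cfsg.blockCoeff (Cfsg.principalBlock M ↥(centralizer ({z} : Set G))) w =
      if (w : G) ∈ K then (Nat.card K : ℂ)⁻¹ else 0 := by
  haveI := hc.1
  rw [hc.2.2, Inflation.blockCoeff_trivialOn,
    Nat.card_congr (subgroupOfEquivOfLe hc.2.1).toEquiv]
  exact if_congr Iff.rfl rfl rfl

/-- The average over the coset of `K` projects on the principal block. -/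
theorem Cover.sum_apply (hM : Cfsg.IsPModular p M) {g z : G} {K : Subgroup G} [Fintype ↥K]
    (hc : Cover M z K) (hg : Cfsg.IsPPart p g z) (χ : Cfsg.IrrCharacter G) :
    ∑ k : ↥K, (χ : G → ℂ) (g * k) =
      if χ ∈ Cfsg.principalBlock M G then (Nat.card K : ℂ) * (χ : G → ℂ) g else 0 := by
  haveI := hM.2.1
  letI := Fintype.ofFinite G
  have h := PrincipalSection.sum_extPrinc_apply hM hg χ
  simp only [PrincipalSection.coe_coeff_extPrinc] at h
  have hco : ∀ k : G, (if hk : k ∈ centralizer ((zpowers z : Subgroup G) : Set G) then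
      Cfsg.blockCoeff (Cfsg.principalBlock M ↥(centralizer ((zpowers z : Subgroup G) : Set G)))
        ⟨k, hk⟩ else 0) = if k ∈ K then (Nat.card K : ℂ)⁻¹ else 0 := by
    rw [PrincipalSection.centralizer_zpowers_eq]
    intro k
    split_ifs with hk hK hK
    · rw [hc.blockCoeff, if_pos hK]
    · rw [hc.blockCoeff, if_neg hK]
    · exact absurd (hc.2.1 hK) hk
    · rfl
  simp only [hco, ite_mul, zero_mul, ← Finset.sum_filter, ← Finset.mul_sum] at h
  rw [Finset.sum_subtype (Finset.univ.filter fun k : G => k ∈ K) (p := fun k => k ∈ K)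
    (fun k => by simp) (fun k => (χ : G → ℂ) (g * k))] at h
  have hK0 : (Nat.card K : ℂ) ≠ 0 := Nat.cast_ne_zero.2 Nat.card_pos.ne'
  rw [inv_mul_eq_iff_eq_mul₀ hK0] at h
  rw [h]
  split_ifs <;> simp

/-- The orthogonality relations of the principal block on the section. -/
theorem Cover.sum_mul (hM : Cfsg.IsPModular p M) {z : G} {K : Subgroup G}
    [Fintype ↥(centralizer ({z} : Set G))] (hc : Cover M z K)
    (g h : ↥(centralizer ({z} : Set G))) (hg : Cfsg.IsPPart p (g : G) z)
    (hh : Cfsg.IsPPart p (h : G) z) :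
    ∑ χ ∈ U34Type98.Section.blk G M, (χ : G → ℂ) g * conj ((χ : G → ℂ) h) =
      ((Finset.univ.filter fun v : ↥(centralizer ({z} : Set G)) =>
        (g : G)⁻¹ * ((v : G) * h * (v : G)⁻¹) ∈ K).card : ℂ) / Nat.card K := by
  haveI := hM.2.1
  letI := Fintype.ofFinite G
  have h1 := PrincipalSection.sum_principal_section hM g h hg hh
  conv_rhs at h1 => rw [← Blocks.sum_blockCoeff_conj]
  simp only [hc.blockCoeff, coe_mul, coe_inv, ← Finset.sum_filter, Finset.sum_const,
    nsmul_eq_mul] at h1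
  rw [div_eq_mul_inv, ← h1, finsum_mem_eq_finite_toFinset_sum _ (Set.toFinite _)]
  exact Finset.sum_congr (by ext χ; simp [U34Type98.Section.mem_blk]) fun χ _ => by
    rw [apply_inv (isCharacter_irr χ)]

/-- Elements with non-conjugate `p`-parts are orthogonal in the principal block. -/
theorem sum_mul_eq_zero (hM : Cfsg.IsPModular p M) {g h x y : G} (hx : Cfsg.IsPPart p g x)
    (hy : Cfsg.IsPPart p h y) (hne : ¬ IsConj x y) :
    ∑ χ ∈ U34Type98.Section.blk G M, (χ : G → ℂ) g * conj ((χ : G → ℂ) h) = 0 := by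
  haveI := hM.2.1
  rw [← Blocks.sum_block_eq_zero hM hx hy hne Blocks.isPBlock_principalBlock,
    finsum_mem_eq_finite_toFinset_sum _ (Set.toFinite _)]
  exact Finset.sum_congr (by ext χ; simp [U34Type98.Section.mem_blk]) fun χ _ => by
    rw [apply_inv (isCharacter_irr χ)]

/-- The class algebra coefficient vanishes if no element of the coset is a product of two conjugates
of `v`. -/
theorem Cover.sum_count (hM : Cfsg.IsPModular p M) {g z v : G} {K : Subgroup G} (hc : Cover M z K)
    (hg : Cfsg.IsPPart p g z)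
    (hno : ∀ k ∈ K, ∀ a b : G, g * k * (a * v * a⁻¹) * (b * v * b⁻¹) ≠ 1) :
    ∑ χ ∈ U34Type98.Section.blk G M, (χ : G → ℂ) g * (χ : G → ℂ) v ^ 2 / (χ : G → ℂ) 1 = 0 := by
  haveI := hM.2.1
  letI := Fintype.ofFinite G
  letI := Fintype.ofFinite (Cfsg.IrrCharacter G)
  letI := Fintype.ofFinite ↥K
  have hG : (Nat.card G : ℂ) ≠ 0 := Nat.cast_ne_zero.2 Nat.card_pos.ne'
  have hone : ∀ (χ : Cfsg.IrrCharacter G) (x : G),
      ∑ a : G, ∑ b : G, (χ : G → ℂ) (x * (a * v * a⁻¹) * (b * v * b⁻¹)) =
      (Nat.card G : ℂ) ^ 2 * (χ : G → ℂ) x * (χ : G → ℂ) v ^ 2 / (χ : G → ℂ) 1 ^ 2 := by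
    intro χ x
    have h1 := apply_one_ne_zero χ
    simp only [H80.ClassMult.sum_apply_mul_conj, ← Finset.sum_div, ← Finset.sum_mul,
      ← Finset.mul_sum]
    field_simp
  have htot : ∑ χ : Cfsg.IrrCharacter G, ((χ : G → ℂ) v ^ 2 / (χ : G → ℂ) 1) *
      ∑ k : ↥K, (χ : G → ℂ) (g * k) = 0 := by
    have h0 : ∑ χ : Cfsg.IrrCharacter G, (χ : G → ℂ) 1 * ∑ k : ↥K, ∑ a : G, ∑ b : G,
        (χ : G → ℂ) (g * k * (a * v * a⁻¹) * (b * v * b⁻¹)) = 0 := by
      simp only [Finset.mul_sum]
      rw [Finset.sum_comm]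
      refine Finset.sum_eq_zero fun k _ => ?_
      rw [Finset.sum_comm]
      refine Finset.sum_eq_zero fun a _ => ?_
      rw [Finset.sum_comm]
      refine Finset.sum_eq_zero fun b _ => ?_
      rw [Characters.Complete.sum_degree_mul_apply, if_neg (hno k k.2 a b)]
    refine (mul_eq_zero.1 ?_).resolve_left (pow_ne_zero 2 hG)
    rw [← h0, Finset.mul_sum]
    refine Finset.sum_congr rfl fun χ _ => ?_
    have h1 := apply_one_ne_zero χ
    simp only [hone, Finset.mul_sum]
    refine Finset.sum_congr rfl fun k _ => ?_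
    field_simp
  simp only [hc.sum_apply hM hg, mul_ite, mul_zero, ← Finset.sum_filter] at htot
  rw [show (Finset.univ.filter fun χ : Cfsg.IrrCharacter G => χ ∈ Cfsg.principalBlock M G) =
      U34Type98.Section.blk G M by ext χ; simp [U34Type98.Section.mem_blk]] at htot
  refine (mul_eq_zero.1 ?_).resolve_left (Nat.cast_ne_zero.2 (Nat.card_pos (α := K)).ne')
  rw [← htot, Finset.mul_sum]
  exact Finset.sum_congr rfl fun χ _ => by ring

/-- The principal block of a solvable-over-core centraliser whose reduced group is constrained. -/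
theorem cover_core (hM : Cfsg.IsPModular p M) (z : G)
    (hs : Cfsg.IsPSolvable p ↥(centralizer ({z} : Set G))) :
    Cover M z (Cfsg.centralizerPPrimeCore p z) := by
  haveI := hM.2.1
  set C := centralizer ({z} : Set G)
  have hK : (Cfsg.centralizerPPrimeCore p z).subgroupOf C = Cfsg.pPrimeCore p ↥C := by
    show ((Cfsg.pPrimeCore p ↥C).map C.subtype).subgroupOf C = _
    rw [subgroupOf, comap_map_eq_self_of_injective C.subtype_injective]
  haveI := Cfsg.pPrimeCore_normal p ↥C
  refine ⟨hK ▸ inferInstance, map_subtype_le _, ?_⟩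
  rw [hK]
  refine Set.eq_of_subset_of_subset
    (fun θ hθ => Inflation.blockOf_subset_trivialOn hM _ (Cores.not_dvd_card_pPrimeCore p)
      (fun _ _ => rfl : ∀ n ∈ Cfsg.pPrimeCore p ↥C,
        (oneChar ↥C : ↥C → ℂ) n = (oneChar ↥C : ↥C → ℂ) 1) hθ)
    fun θ hθ => Chars82.ConstrainedBlock.mem_principalBlock_of_trivialOn hM hs hθ

end Cfsg.Agent.Lib.PiHomog3258.Five.Sect
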