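import Cfsg.Agent.Lib.PiHomog3258.Five.Config

/-!
# The sections of `a` and of its square roots
-/

set_option autoImplicit false
set_option linter.style.haveILetI false
set_option linter.unusedSectionVars false

namespace Cfsg.Agent.Lib.PiHomog3258.Five.Config

open Subgroup Cfsg.Agent.Lib.U34Type98
open scoped ComplexConjugate

universe u

attribute [local instance] Classical.propDecidable

variable {G : Type u} [Group G] [Finite G] {S : Sylow 2 G} {a x₀ : ↥(S : Subgroup G)} {f : G}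

variable (D : Config S a x₀ f)
include D

/-- The centraliser of a square root of `a` lies in `O(C(a)) S`. -/
theorem split_root {t : ↥(S : Subgroup G)} (ht : t ∉ center ↥(S : Subgroup G)) (ht2 : t * t = a)
    {c : G} (hc : c * (t : G) = t * c) : ∃ k ∈ core (a : G), k * (t : G) = t * k ∧
      ∃ s : ↥(S : Subgroup G), s * t = t * s ∧ c = k * (s : G) := by
  have hca : c ∈ centralizer ({(a : G)} : Set G) := mem_centralizer_singleton_iff.2 (by
    rw [← ht2, coe_mul]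
    exact ((show Commute c (t : G) from hc).mul_right hc).eq)
  obtain ⟨k, hk, s, i, rfl⟩ := D.split c hca
  obtain ⟨u, hu⟩ := D.exists_conj_f i t
  have h1 : k * ((s * u * s⁻¹ : ↥(S : Subgroup G)) : G) * k⁻¹ = t := by
    push_cast
    rw [hu]
    calc k * ((s : G) * (f ^ (i : ℕ) * t * (f ^ (i : ℕ))⁻¹) * (s : G)⁻¹) * k⁻¹
        = k * s * f ^ (i : ℕ) * t * (k * s * f ^ (i : ℕ))⁻¹ := by group
      _ = t := mul_inv_eq_iff_eq_mul.2 hc
  obtain ⟨h2, h3⟩ := D.core_fix hk h1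
  have hut : u = s⁻¹ * t * s := by rw [← h2]; group
  have h5 : (5 : ℕ) ∣ i := by
    refine D.dvd_of_coset (t := t) (z := t⁻¹ * u) ht ?_ (by rw [← hu]; simp)
    rw [hut, show t⁻¹ * (s⁻¹ * t * s) =
      (t⁻¹ * t⁻¹) * ((t * s⁻¹) * (t * s⁻¹)) * (s * s) by group]
    refine mul_mem (mul_mem ?_ (D.sq _)) (D.sq _)
    rw [← mul_inv_rev]
    exact inv_mem (D.sq t)
  have hi : (i : ℕ) = 0 := by omega
  rw [hi, pow_zero, mul_one]
  have hu' : u = t := Subtype.ext (by rw [hu, hi]; simp)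
  refine ⟨k, hk, ?_, s, ?_, rfl⟩
  · rw [h2] at h3
    exact h3
  · rw [hu'] at h2
    exact mul_inv_eq_iff_eq_mul.1 h2

theorem mem_core_root {t : ↥(S : Subgroup G)} (ht : t ∉ center ↥(S : Subgroup G)) (ht2 : t * t = a)
    {y : G} (hy : y * (t : G) = t * y) (hodd : Odd (orderOf y)) : y ∈ core (a : G) := by
  haveI : Fact (Nat.Prime 2) := ⟨Nat.prime_two⟩
  obtain ⟨k, hk, -, s, -, rfl⟩ := D.split_root ht ht2 hy
  obtain ⟨n, hn⟩ := IsPGroup.iff_orderOf.1 S.2 s
  have key : ∀ j : ℕ, ∃ k' ∈ core (a : G), (k * (s : G)) ^ j = k' * (s : G) ^ j := by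
    intro j
    induction j with
    | zero => exact ⟨1, one_mem _, by simp⟩
    | succ j ih =>
      obtain ⟨k', hk', he⟩ := ih
      refine ⟨k' * ((s : G) ^ j * k * ((s : G) ^ j)⁻¹),
        mul_mem hk' (D.core_conj (pow_mem (D.mem_cent s) j) hk), ?_⟩
      rw [pow_succ (k * (s : G)), he, pow_succ (s : G)]
      group
  obtain ⟨k', hk', he⟩ := key (orderOf (k * (s : G)))
  rw [pow_orderOf_eq_one] at he
  have h1 : (s : G) ^ orderOf (k * (s : G)) = 1 := D.core_inf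
    (by rw [show (s : G) ^ orderOf (k * (s : G)) = k'⁻¹ from eq_inv_of_mul_eq_one_right he.symm]
        exact inv_mem hk')
    (pow_mem s.2 _)
  have h2 : orderOf (s : G) = 1 := Nat.eq_one_of_dvd_coprimes
    ((Nat.coprime_two_left.2 hodd).pow_left n)
    (by rw [← hn, Subgroup.orderOf_coe]) (orderOf_dvd_of_pow_eq_one h1)
  rw [orderOf_eq_one_iff.1 h2, mul_one]
  exact hk

/-- The section of a square root of `a`. -/
theorem exists_sec {t : ↥(S : Subgroup G)} (ht : t ∉ center ↥(S : Subgroup G)) (ht2 : t * t = a) :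
    (∃ K, Section.Sec (t : G) K) ∧ Section.two (t : G) = 16 := by
  haveI : Fact (Nat.Prime 2) := ⟨Nat.prime_two⟩
  set C := centralizer ({(t : G)} : Set G)
  let N : Subgroup ↥C := (core (a : G)).subgroupOf C
  have hCa : ∀ c ∈ C, c ∈ centralizer ({(a : G)} : Set G) := fun c hc =>
    mem_centralizer_singleton_iff.2 (by
      rw [← ht2, coe_mul]
      exact ((show Commute c (t : G) from mem_centralizer_singleton_iff.1 hc).mul_right
        (mem_centralizer_singleton_iff.1 hc)).eq)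
  haveI hN : N.Normal := ⟨fun k hk c => D.core_conj (hCa c c.2) hk⟩
  have hNodd : Odd (Nat.card ↥N) := by
    refine Odd.of_dvd_nat D.card_core_odd ?_
    rw [← card_map_of_injective (f := C.subtype) C.subtype_injective]
    exact card_dvd_of_le (by rintro _ ⟨k, hk, rfl⟩; exact hk)
  let T := {s : ↥(S : Subgroup G) // s * t = t * s}
  have hbij : Nat.card ↥C = Nat.card ↥N * Nat.card T := by
    rw [← Nat.card_prod]
    refine (Nat.card_congr (Equiv.ofBijective (fun p : ↥N × T =>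
      (⟨((p.1 : ↥C) : G) * (p.2.1 : G), mul_mem (p.1 : ↥C).2 (mem_centralizer_singleton_iff.2
        (congrArg Subtype.val p.2.2))⟩ : ↥C)) ⟨?_, ?_⟩)).symm
    · rintro ⟨⟨⟨k, hkC⟩, hk⟩, s⟩ ⟨⟨⟨k', hkC'⟩, hk'⟩, s'⟩ h
      have he : k * (s.1 : G) * f ^ 0 = k' * (s'.1 : G) * f ^ 0 := by
        simpa using congrArg Subtype.val h
      obtain ⟨-, hss, hkk⟩ := D.split_unique hk hk' he
      exact Prod.ext (Subtype.ext (Subtype.ext (hkk rfl))) (Subtype.ext hss)
    · rintro ⟨c, hc⟩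
      obtain ⟨k, hk, hkt, s, hst, rfl⟩ := D.split_root ht ht2 (mem_centralizer_singleton_iff.1 hc)
      exact ⟨(⟨⟨k, mem_centralizer_singleton_iff.2 hkt⟩, hk⟩, ⟨s, hst⟩), rfl⟩
  rw [show Nat.card T = 16 from D.card_cent t ht] at hbij
  have hidx : N.index = 2 ^ 4 := by
    refine Nat.eq_of_mul_eq_mul_left (Nat.card_pos (α := ↥N)) ?_
    rw [N.card_mul_index, hbij]
    norm_num
  refine ⟨⟨_, ⟨?_, fun h => ht ((Subtype.ext h : t = 1) ▸ one_mem _), ?_, rfl⟩⟩, ?_⟩
  · obtain ⟨i, hi⟩ := IsPGroup.iff_orderOf.1 S.2 t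
    exact ⟨i, by rw [Subgroup.orderOf_coe, hi]⟩
  · have hle : N ≤ Cfsg.pPrimeCore 2 ↥C := Cores.le_pPrimeCore (Nat.coprime_two_right.2 hNodd)
    obtain ⟨k, -, hk⟩ :=
      (Nat.dvd_prime_pow Nat.prime_two).1 (hidx ▸ Subgroup.index_dvd_of_le hle)
    exact ⟨k, hk⟩
  · rw [Section.two, hbij, Nat.factorization_mul Nat.card_pos.ne' (by norm_num),
      Finsupp.add_apply, show (16 : ℕ) = 2 ^ 4 by norm_num, Nat.prime_two.factorization_pow,
      Finsupp.single_eq_same,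
      Nat.factorization_eq_zero_of_not_dvd fun h => by
        obtain ⟨r, hr⟩ := hNodd
        omega, zero_add]

/-- An odd power of the elements `a k f^i`. -/
theorem odd_order {k : G} (hk : k ∈ core (a : G)) (i : ℕ) : Odd (orderOf (f ^ i * k)) := by
  have key : ∀ j : ℕ, ∃ k' ∈ core (a : G), (f ^ i * k) ^ j = k' * (f ^ i) ^ j := by
    intro j
    induction j with
    | zero => exact ⟨1, one_mem _, by simp⟩
    | succ j ih =>
      obtain ⟨k', hk', he⟩ := ih
      refine ⟨k' * ((f ^ i) ^ (j + 1) * k * ((f ^ i) ^ (j + 1))⁻¹),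
        mul_mem hk' (D.core_conj (pow_mem (pow_mem D.f_mem i) (j + 1)) hk), ?_⟩
      rw [pow_succ (f ^ i * k), he, pow_succ (f ^ i)]
      group
  obtain ⟨k', hk', he⟩ := key 5
  rw [← pow_mul, mul_comm i 5] at he
  have h : orderOf (f ^ i * k) ∣ 5 * orderOf (k' * f ^ (5 * i)) :=
    orderOf_dvd_of_pow_eq_one (by rw [pow_mul, he, pow_orderOf_eq_one])
  exact Odd.of_dvd_nat (Odd.mul (by decide) (D.core_odd (mul_mem hk' (D.f_pow_five i)))) h

theorem orderOf_a : orderOf (a : G) = 2 := by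
  haveI : Fact (Nat.Prime 2) := ⟨Nat.prime_two⟩
  exact orderOf_eq_prime (by rw [pow_two]; exact congrArg Subtype.val (D.center_sq a D.a_mem))
    fun h => D.a_ne (Subtype.ext h)

theorem isPPart {k : G} (hk : k ∈ core (a : G)) (i : ℕ) :
    Cfsg.IsPPart 2 ((a : G) * (f ^ i * k)) (a : G) := by
  refine ⟨f ^ i * k, rfl, ?_, ⟨1, by rw [D.orderOf_a]; rfl⟩, ?_⟩
  · exact ((mem_centralizer_singleton_iff.1 (mul_mem (pow_mem D.f_mem i)
      (D.core_le hk))).symm :)
  · rw [Nat.two_dvd_ne_zero, ← Nat.odd_iff]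
    exact D.odd_order hk i

theorem mem_section (i : ℕ) : (a : G) * f ^ i ∈ centralizer ({(a : G)} : Set G) :=
  mul_mem (D.mem_cent a) (pow_mem D.f_mem i)

/-- When two of the elements `a f^i` are conjugate modulo `O(C(a))`. -/
theorem conj_iff {k : G} (hk : k ∈ core (a : G)) (s : ↥(S : Subgroup G)) (m i j : ℕ) :
    ((a : G) * f ^ i)⁻¹ * (k * s * f ^ m * ((a : G) * f ^ j) * (k * s * f ^ m)⁻¹) ∈ core (a : G) ↔
      i % 5 = j % 5 ∧ (j % 5 = 0 ∨ s ∈ center ↥(S : Subgroup G)) := by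
  obtain ⟨u, hu⟩ := D.exists_conj_f j s⁻¹
  have hf : f ^ m * f ^ j = f ^ j * f ^ m := by rw [← pow_add, ← pow_add, add_comm]
  have hA : ∀ c ∈ centralizer ({(a : G)} : Set G), c * (a : G) * c⁻¹ = a := fun c hc =>
    mul_inv_eq_iff_eq_mul.2 (mem_centralizer_singleton_iff.1 hc)
  have hksm : k * s * f ^ m ∈ centralizer ({(a : G)} : Set G) :=
    mul_mem (mul_mem (D.core_le hk) (D.mem_cent s)) (pow_mem D.f_mem m)
  -- the conjugate in normal form
  have h1 : ((a : G) * f ^ i)⁻¹ * (k * s * f ^ m * ((a : G) * f ^ j) * (k * s * f ^ m)⁻¹) =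
      (f ^ i)⁻¹ * (k * ((s * u : ↥(S : Subgroup G)) : G) * f ^ j * k⁻¹) := by
    calc ((a : G) * f ^ i)⁻¹ * (k * s * f ^ m * ((a : G) * f ^ j) * (k * s * f ^ m)⁻¹)
        = (f ^ i)⁻¹ * ((a : G)⁻¹ * (k * s * f ^ m * (a : G) * (k * s * f ^ m)⁻¹)) *
            (k * s * (f ^ m * f ^ j) * (f ^ m)⁻¹ * (s : G)⁻¹ * k⁻¹) := by group
      _ = (f ^ i)⁻¹ * (k * s * (f ^ j * (s : G)⁻¹ * (f ^ j)⁻¹) * f ^ j * k⁻¹) := by
          rw [hA _ hksm, inv_mul_cancel, hf]; group
      _ = _ := by push_cast; rw [hu]; push_cast; group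
  rw [h1]
  constructor
  · intro h
    have h2 : k * ((s * u : ↥(S : Subgroup G)) : G) * f ^ j * k⁻¹ * (f ^ i)⁻¹ ∈ core (a : G) := by
      have := D.core_conj (pow_mem D.f_mem i) h
      simpa [mul_assoc] using this
    set k' := k * ((s * u : ↥(S : Subgroup G)) : G) * f ^ j * k⁻¹ * (f ^ i)⁻¹ with hk'
    have he : k * ((s * u : ↥(S : Subgroup G)) : G) * f ^ j =
        (k' * (f ^ i * k * (f ^ i)⁻¹)) * ((1 : ↥(S : Subgroup G)) : G) * f ^ i := by
      rw [hk']; push_cast; group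
    obtain ⟨hij, hsu, -⟩ := D.split_unique hk
      (mul_mem h2 (D.core_conj (pow_mem D.f_mem i) hk)) he
    refine ⟨hij.symm, or_iff_not_imp_left.2 fun hj => ?_⟩
    have hus : u = s⁻¹ := eq_inv_of_mul_eq_one_right hsu
    by_contra hs
    refine hj (Nat.mod_eq_zero_of_dvd ?_ : j % 5 = 0)
    exact D.dvd_of_coset (t := s⁻¹) (z := 1) (fun h => hs (by simpa using inv_mem h)) (one_mem _)
      (by rw [← hu, hus]; simp)
  · rintro ⟨hij, hs⟩
    have hus : s * u = 1 := Subtype.ext (by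
      push_cast
      rw [hu]
      rcases hs with hj | hs
      · have hmem : f ^ j ∈ core (a : G) := by
          rw [D.f_pow_mod j, hj, pow_zero, mul_one]
          exact D.f_pow_five _
        have hfix : f ^ j * ((s⁻¹ : ↥(S : Subgroup G)) : G) * (f ^ j)⁻¹ =
            ((s⁻¹ : ↥(S : Subgroup G)) : G) := by
          obtain ⟨v, hv⟩ := D.exists_conj_f j s⁻¹
          rw [← hv, ← (D.core_fix hmem hv.symm).1]
        rw [hfix]
        simp
      · rw [((show Commute f (((s⁻¹ : ↥(S : Subgroup G)) : G)) from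
          D.f_center _ (inv_mem hs)).pow_left j).eq]
        simp)
    rw [hus, coe_one, mul_one]
    have h2 : (f ^ i)⁻¹ * f ^ j ∈ core (a : G) := by
      rw [D.f_pow_mod i, D.f_pow_mod j, hij]
      have := D.core_conj (inv_mem (pow_mem D.f_mem (j % 5)))
        (mul_mem (inv_mem (D.f_pow_five (i / 5))) (D.f_pow_five (j / 5)))
      simpa [mul_assoc] using this
    have := mul_mem (mul_mem (D.core_conj (inv_mem (pow_mem D.f_mem i)) hk) h2) (inv_mem hk)
    simpa [mul_assoc] using this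

/-- The number of conjugating elements, as a multiple of `|O(C(a))|`. -/
theorem card_conj [Fintype ↥(centralizer ({(a : G)} : Set G))] (i j : Fin 5) :
    (Finset.univ.filter fun v : ↥(centralizer ({(a : G)} : Set G)) =>
      ((a : G) * f ^ (i : ℕ))⁻¹ * ((v : G) * ((a : G) * f ^ (j : ℕ)) * (v : G)⁻¹) ∈
        core (a : G)).card =
    Nat.card ↥(core (a : G)) * if i = j then (if i = 0 then 320 else 20) else 0 := by
  letI := Fintype.ofFinite ↥(core (a : G))
  letI := Fintype.ofFinite ↥(S : Subgroup G)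
  let e : ↥(core (a : G)) × ↥(S : Subgroup G) × Fin 5 → ↥(centralizer ({(a : G)} : Set G)) :=
    fun p => ⟨(p.1 : G) * (p.2.1 : G) * f ^ (p.2.2 : ℕ),
      mul_mem (mul_mem (D.core_le p.1.2) (D.mem_cent p.2.1)) (pow_mem D.f_mem _)⟩
  have he : Function.Bijective e := by
    refine ⟨?_, fun c => ?_⟩
    · rintro ⟨⟨k, hk⟩, s, m⟩ ⟨⟨k', hk'⟩, s', m'⟩ h
      obtain ⟨hm, hs, hkk⟩ := D.split_unique hk hk' (congrArg Subtype.val h)
      rw [Nat.mod_eq_of_lt m.2, Nat.mod_eq_of_lt m'.2] at hm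
      have hk2 := hkk hm
      subst hk2 hs
      simp [Fin.ext hm]
    · obtain ⟨k, hk, s, m, hc⟩ := D.split c c.2
      exact ⟨(⟨k, hk⟩, s, m), Subtype.ext hc.symm⟩
  set Z := Finset.univ.filter fun s : ↥(S : Subgroup G) =>
    (j : ℕ) % 5 = 0 ∨ s ∈ center ↥(S : Subgroup G)
  have hset : (Finset.univ.filter fun v : ↥(centralizer ({(a : G)} : Set G)) =>
      ((a : G) * f ^ (i : ℕ))⁻¹ * ((v : G) * ((a : G) * f ^ (j : ℕ)) * (v : G)⁻¹) ∈
        core (a : G)) =
      if i = j then ((Finset.univ ×ˢ (Z ×ˢ Finset.univ)).map ⟨e, he.1⟩) else ∅ := by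
    ext v
    obtain ⟨⟨⟨k, hk⟩, s, m⟩, rfl⟩ := he.2 v
    simp only [Finset.mem_filter, Finset.mem_univ, true_and, e]
    rw [D.conj_iff hk s m i j, Nat.mod_eq_of_lt i.2, Nat.mod_eq_of_lt j.2, ← Fin.ext_iff]
    split_ifs with hij
    · simp only [hij, true_and, Finset.mem_map, Function.Embedding.coeFn_mk]
      constructor
      · intro h
        exact ⟨(⟨k, hk⟩, s, m), by simpa [Z, Nat.mod_eq_of_lt j.2] using h, rfl⟩
      · rintro ⟨p, hp, hpe⟩
        have := he.1 (a₁ := p) (a₂ := (⟨k, hk⟩, s, m)) hpe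
        subst this
        simpa [Z, Nat.mod_eq_of_lt j.2] using hp
    · simp [hij]
  rw [hset]
  split_ifs with hij hi
  · subst hij hi
    simp [Z, Finset.card_product, ← Nat.card_eq_fintype_card, D.card, mul_comm, Nat.card_fin]
  · subst hij
    have hj : (i : ℕ) % 5 ≠ 0 := by
      rw [Nat.mod_eq_of_lt i.2]; exact fun h => hi (Fin.ext h)
    have hZ : Z.card = 4 := by
      rw [← D.card_center, ← Fintype.card_subtype, ← Nat.card_eq_fintype_card]
      exact Nat.card_congr (Equiv.subtypeEquivRight fun s => or_iff_right hj)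
    simp [Finset.card_product, hZ, ← Nat.card_eq_fintype_card, mul_comm, Nat.card_fin]
  · simp

/-- No element of the section of `a` outside `a O(C(a))` is a product of two conjugates of `a`. -/
theorem not_two {k : G} (hk : k ∈ core (a : G)) {i : Fin 5} (hi : i ≠ 0) (g h : G) :
    (a : G) * f ^ (i : ℕ) * k * (g * (a : G) * g⁻¹) * (h * (a : G) * h⁻¹) ≠ 1 := by
  intro hw
  set r := g * (a : G) * g⁻¹
  set r' := h * (a : G) * h⁻¹
  have ha : (a : G) * a = 1 := congrArg Subtype.val (D.center_sq a D.a_mem)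
  have hr : r * r = 1 := by
    rw [show r * r = g * ((a : G) * a) * g⁻¹ by simp only [r]; group, ha]; group
  have hr' : r' * r' = 1 := by
    rw [show r' * r' = h * ((a : G) * a) * h⁻¹ by simp only [r']; group, ha]; group
  set w := (a : G) * f ^ (i : ℕ) * k
  have hrr : r⁻¹ = r := inv_eq_of_mul_eq_one_right hr
  have hwe : w = r' * r := by
    rw [mul_eq_one_iff_eq_inv.1 (show w * (r * r') = 1 by rw [← mul_assoc]; exact hw),
      mul_inv_rev, hrr, inv_eq_of_mul_eq_one_right hr']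
  have hinv : MulAut.conj r w = w⁻¹ := by
    rw [hwe, mul_inv_rev, hrr, inv_eq_of_mul_eq_one_right hr', MulAut.conj_apply, hrr,
      mul_assoc, mul_assoc r', hr, mul_one]
  obtain ⟨n, hn⟩ := mem_zpowers_iff.1
    (BrauerMap.PrincipalSection.isPPart_mem_zpowers Nat.prime_two
      (show Cfsg.IsPPart 2 w (a : G) by simpa [w, mul_assoc] using D.isPPart hk i))
  have hra : r * (a : G) * r⁻¹ = a := by
    calc r * (a : G) * r⁻¹ = MulAut.conj r (w ^ n) := by rw [hn]; rfl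
      _ = (a : G)⁻¹ := by rw [map_zpow, hinv, inv_zpow, hn]
      _ = a := inv_eq_of_mul_eq_one_right ha
  obtain ⟨k₁, hk₁, s, m, hrd⟩ :=
    D.split r (mem_centralizer_singleton_iff.2 (mul_inv_eq_iff_eq_mul.1 hra))
  have hrC : r ∈ centralizer ({(a : G)} : Set G) :=
    mem_centralizer_singleton_iff.2 (mul_inv_eq_iff_eq_mul.1 hra)
  have hX : r * ((a : G) * f ^ (i : ℕ)) * r⁻¹ =
      ((a : G) * f ^ (4 * (i : ℕ))) *
        ((f ^ (4 * (i : ℕ)))⁻¹ * ((f ^ (i : ℕ) * k)⁻¹ * (r * k * r⁻¹)⁻¹)) := by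
    have hai : (f ^ (i : ℕ) * k)⁻¹ * (a : G) = (a : G) * (f ^ (i : ℕ) * k)⁻¹ :=
      mem_centralizer_singleton_iff.1 (inv_mem (mul_mem (pow_mem D.f_mem i) (D.core_le hk)))
    calc r * ((a : G) * f ^ (i : ℕ)) * r⁻¹
        = MulAut.conj r w * (r * k * r⁻¹)⁻¹ := by simp only [w, MulAut.conj_apply]; group
      _ = (f ^ (i : ℕ) * k)⁻¹ * (a : G) * (r * k * r⁻¹)⁻¹ := by
          rw [hinv, show w = (a : G) * (f ^ (i : ℕ) * k) from mul_assoc _ _ _, mul_inv_rev,
            inv_eq_of_mul_eq_one_right ha]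
      _ = _ := by rw [hai]; group
  have hmem : ((a : G) * f ^ (4 * (i : ℕ)))⁻¹ *
      (k₁ * s * f ^ (m : ℕ) * ((a : G) * f ^ (i : ℕ)) * (k₁ * s * f ^ (m : ℕ))⁻¹) ∈
        core (a : G) := by
    rw [← hrd, hX, inv_mul_cancel_left]
    have h4 : f ^ (4 * (i : ℕ)) * f ^ (i : ℕ) ∈ core (a : G) := by
      rw [← pow_add, show 4 * (i : ℕ) + i = 5 * i by ring]
      exact D.f_pow_five i
    rw [show (f ^ (4 * (i : ℕ)))⁻¹ * ((f ^ (i : ℕ) * k)⁻¹ * (r * k * r⁻¹)⁻¹) =
      ((f ^ (4 * (i : ℕ)))⁻¹ * k⁻¹ * f ^ (4 * (i : ℕ))) *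
        (f ^ (4 * (i : ℕ)) * f ^ (i : ℕ))⁻¹ * (r * k * r⁻¹)⁻¹ by group]
    refine mul_mem (mul_mem ?_ (inv_mem h4)) (inv_mem (D.core_conj hrC hk))
    simpa using D.core_conj (inv_mem (pow_mem D.f_mem (4 * (i : ℕ)))) (inv_mem hk)
  obtain ⟨h5, -⟩ := (D.conj_iff hk₁ s m (4 * (i : ℕ)) i).1 hmem
  have := i.2
  have : (i : ℕ) ≠ 0 := fun h => hi (Fin.ext h)
  omega

end Cfsg.Agent.Lib.PiHomog3258.Five.Config
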